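import Groth.Agent.H30.FSch.AffAcyclic
import Groth.Agent.H30.FSch.AcycPush
import Groth.Agent.Lib.Cech.MV

/-!
# Ind-coherent modules on a Noetherian formal scheme have bounded cohomological dimension on
uniform families of opens (helper22)
-/

set_option autoImplicit false
set_option maxHeartbeats 1000000
set_option linter.style.haveILetI false

universe u

open CategoryTheory CategoryTheory.Limits AlgebraicGeometry TopologicalSpace Opposite
open CategoryTheory.Abelian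
open Groth.Agent.H30 Groth.Agent.Lib Groth.Agent.Lib.ZarCoh.Basic

namespace Groth.Agent.H22.CohDim

section Top

variable {T : TopCat.{u}}

/-- The cohomology of `F` on `U` vanishes above `d`. -/
def Van (F : CohTop.Ab T) (U : Opens T) (d : ℕ) : Prop :=
  ∀ k, d < k → Subsingleton (Ext.{u} (Zs.obj U) F k)

theorem Van.mono {F : CohTop.Ab T} {U : Opens T} {d d' : ℕ} (h : Van F U d) (hd : d ≤ d') : Van F U d' :=
  fun k hk => h k (lt_of_le_of_lt hd hk)

theorem Van.sup {F : CohTop.Ab T} {U V : Opens T} {d : ℕ} (hU : Van F U d) (hV : Van F V d)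
    (hUV : Van F (U ⊓ V) d) : Van F (U ⊔ V) (d + 1) := fun k hk => by
  obtain ⟨n, rfl⟩ : ∃ n, k = n + 1 := ⟨k - 1, by omega⟩
  haveI : Subsingleton (CohTop.HU F (n + 1) U) := hU (n + 1) (by omega)
  haveI : Subsingleton (CohTop.HU F (n + 1) V) := hV (n + 1) (by omega)
  haveI : Subsingleton (CohTop.HU F n (U ⊓ V)) := hUV n (by omega)
  exact Lib.Cech.MV.subsingleton_HU_sup F U V n

end Top

section Alg

variable {X : Scheme.{u}} (U₀ : X.Opens) (Q : X.Opens → ℕ → Prop)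

/-- The opens of an open subscheme whose intersections with its affine opens are affine. -/
def Uniform : Set X.Opens := {O | ∀ W : X.Opens, IsAffineOpen W → W ≤ U₀ → IsAffineOpen (O ⊓ W)}

/-- A uniform bound on the uniform opens. -/
def Bdd (U : X.Opens) : Prop := ∃ d : ℕ, ∀ O ∈ Uniform U₀, Q (O ⊓ U) d

variable (mono : ∀ U d d', Q U d → d ≤ d' → Q U d')
  (aff : ∀ U, IsAffineOpen U → Q U 0)
  (sup : ∀ U V d, Q U d → Q V d → Q (U ⊓ V) d → Q (U ⊔ V) (d + 1))

include mono sup in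
theorem bdd_sup {U V : X.Opens} (hU : Bdd U₀ Q U) (hV : Bdd U₀ Q V) (hUV : Bdd U₀ Q (U ⊓ V)) :
    Bdd U₀ Q (U ⊔ V) := by
  obtain ⟨a, ha⟩ := hU
  obtain ⟨b, hb⟩ := hV
  obtain ⟨c, hc⟩ := hUV
  refine ⟨a + b + c + 1, fun O hO => ?_⟩
  rw [inf_sup_left]
  refine sup _ _ (a + b + c) (mono _ _ _ (ha O hO) (by omega)) (mono _ _ _ (hb O hO) (by omega)) ?_
  have e : O ⊓ U ⊓ (O ⊓ V) = O ⊓ (U ⊓ V) := (inf_inf_distrib_left O U V).symm
  rw [e]
  exact mono _ _ _ (hc O hO) (by omega)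

include aff in
theorem bdd_affine {U : X.Opens} (hU : IsAffineOpen U) (h : U ≤ U₀) : Bdd U₀ Q U :=
  ⟨0, fun _ hO => aff _ (hO U hU h)⟩

include aff in
theorem bdd_bot : Bdd U₀ Q ⊥ := bdd_affine U₀ Q aff (isAffineOpen_bot X) bot_le

include mono aff sup in
/-- Quasi-compact opens of an affine open have bounded cohomological dimension, uniformly. -/
theorem bdd_of_le_affine {W : X.Opens} (hW : IsAffineOpen W) (hWU : W ≤ U₀) {U : X.Opens}
    (hc : IsCompact (U : Set X)) (hUW : U ≤ W) : Bdd U₀ Q U := by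
  suffices H : U ≤ W → ∀ Z : X.Opens, IsAffineOpen Z → Z ≤ W → Bdd U₀ Q (U ⊓ Z) by
    simpa [inf_eq_left.2 hUW] using H hUW W hW le_rfl
  refine compact_open_induction_on (P := fun U => U ≤ W → ∀ Z : X.Opens, IsAffineOpen Z → Z ≤ W →
    Bdd U₀ Q (U ⊓ Z)) U hc ?_ ?_
  · intro _ Z _ _
    rw [bot_inf_eq]
    exact bdd_bot U₀ Q aff
  · intro S _ V hS hle Z hZ hZW
    have hSW : S ≤ W := le_sup_left.trans hle
    have hVW : (V : X.Opens) ≤ W := le_sup_right.trans hle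
    have hVZ : IsAffineOpen ((V : X.Opens) ⊓ Z) := inter_affine hW V.2 hZ hVW hZW
    rw [inf_sup_right]
    refine bdd_sup U₀ Q mono sup (hS hSW Z hZ hZW) (bdd_affine U₀ Q aff hVZ (inf_le_right.trans (hZW.trans hWU))) ?_
    have e : S ⊓ Z ⊓ ((V : X.Opens) ⊓ Z) = S ⊓ ((V : X.Opens) ⊓ Z) := by
      rw [inf_assoc, inf_left_comm Z, inf_idem]
    rw [e]
    exact hS hSW _ hVZ (inf_le_right.trans hZW)
where
  inter_affine {X : Scheme.{u}} {W V Z : X.Opens} (hW : IsAffineOpen W) (hV : IsAffineOpen V)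
      (hZ : IsAffineOpen Z) (hVW : V ≤ W) (hZW : Z ≤ W) : IsAffineOpen (V ⊓ Z) := by
    haveI : IsAffine W.toScheme := hW
    have h := (hV.preimage_of_isOpenImmersion W.ι (by simpa using hVW)).inf
      (hZ.preimage_of_isOpenImmersion W.ι (by simpa using hZW))
    rw [← Scheme.Hom.preimage_inf] at h
    have h' := h.image_of_isOpenImmersion W.ι
    rwa [Scheme.Hom.image_preimage_eq_opensRange_inf, Scheme.Opens.opensRange_ι,
      inf_eq_right.2 (inf_le_left.trans hVW)] at h'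

include mono aff sup in
/-- A uniform bound on every open of `U₀`, when all these opens are quasi-compact. -/
theorem bdd_of_le {U : X.Opens} (hqc : ∀ V : X.Opens, V ≤ U₀ → IsCompact (V : Set X)) (hU : U ≤ U₀) :
    Bdd U₀ Q U := by
  refine compact_open_induction_on (P := fun U => U ≤ U₀ → Bdd U₀ Q U) U (hqc U hU) ?_ ?_ hU
  · exact fun _ => bdd_bot U₀ Q aff
  · intro S _ V hS hle
    have hSU : S ≤ U₀ := le_sup_left.trans hle
    have hVU : (V : X.Opens) ≤ U₀ := le_sup_right.trans hle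
    exact bdd_sup U₀ Q mono sup (hS hSU) (bdd_affine U₀ Q aff V.2 hVU)
      (bdd_of_le_affine U₀ Q mono aff sup V.2 hVU (hqc _ (inf_le_right.trans hVU)) inf_le_right)

theorem basicOpen_mem_uniform (s : Γ(X, U₀)) : X.basicOpen s ∈ Uniform U₀ := fun W hW h => by
  have e : X.basicOpen s ⊓ W = X.basicOpen (X.presheaf.map (homOfLE h).op s) := by
    rw [Scheme.basicOpen_res, inf_comm]
  rw [e]
  exact hW.basicOpen _

end Alg

section FSchBound

variable {𝔛 : FSch.Sys.{u}} (h𝔛 : 𝔛.IsLocNoethFormal) [CompactSpace (𝔛.X 0)]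

/-- Vanishing above `d` for all ind-coherent modules. -/
def VanInd (U : (𝔛.X 0).Opens) (d : ℕ) : Prop :=
  ∀ M : FSch.ModF 𝔛 h𝔛.1, (ObjectProperty.ind.{u} fun 𝔊 : FSch.ModF 𝔛 h𝔛.1 => FSch.IsCohF 𝔛 h𝔛.1 𝔊) M →
    Van ((SheafOfModules.toSheaf _).obj M) U d

/-- One bound serves all the uniform opens of any open. -/
theorem exists_bound (U₀ : (𝔛.X 0).Opens) :
    ∃ d, ∀ O ∈ Uniform U₀, O ≤ U₀ → VanInd h𝔛 O d := by
  haveI := h𝔛.2.2 0
  haveI : IsNoetherian (𝔛.X 0) := {}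
  obtain ⟨d, hd⟩ := bdd_of_le U₀ (VanInd h𝔛) (fun U d d' h hd M hM => (h M hM).mono hd)
    (fun U hU M hM k hk => AffAcyclic.subsingleton_ind h𝔛 hU M hM k hk)
    (fun U V d hU hV hUV M hM => (hU M hM).sup (hV M hM) (hUV M hM))
    (U := U₀) (fun V _ => NoetherianSpace.isCompact _) le_rfl
  refine ⟨d, fun O hO hle => ?_⟩
  have h := hd O hO
  rwa [inf_eq_left.2 hle] at h

theorem exists_bound_top : ∃ d, VanInd h𝔛 (⊤ : (𝔛.X 0).Opens) d := by
  obtain ⟨d, hd⟩ := exists_bound h𝔛 ⊤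
  exact ⟨d, hd ⊤ (fun W hW _ => by rwa [top_inf_eq]) le_rfl⟩

end FSchBound

end Groth.Agent.H22.CohDim
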