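import Groth.Agent.H22.CohDim.Fin
import Groth.Agent.Lib.FreeCompact.ExtCollection
import Groth.Agent.H30.ColimCoh.Main
import Groth.Agent.H30.FSch.AffinePushD

/-!
# The derived direct image preserves sums of complexes of bounded cohomological dimension (helper22)
-/

set_option autoImplicit false
set_option maxHeartbeats 1000000
set_option linter.style.haveILetI false
set_option linter.unusedSectionVars false

universe u

open CategoryTheory CategoryTheory.Limits Opposite CategoryTheory.Abelian TopologicalSpace DerivedCategory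
open Groth.Agent.Lib Groth.Agent.Lib.RlimTrunc
open Groth.Agent.Lib.RlimTrunc.Single Groth.Agent.Lib.RlimTrunc.Devissage Groth.Agent.Lib.RlimTrunc.Tower
open Groth.Agent.Lib.RlimTrunc.Main (CofinalGood)
open Groth.Agent.Lib.ZarCoh.Basic Groth.Agent.H30 Groth.Agent.H22.CohDimFin

attribute [local instance] DerivedOX.Exists.isLeftAdjoint_Qh HasDerivedCategory.standard

namespace Groth.Agent.H22.CohDimCoprod

variable {T : TopCat.{u}} [PrespectralSpace T] [QuasiSeparatedSpace T]
  {O : Sheaf (Opens.grothendieckTopology T) CommRingCat.{u}}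

/-- Cohomology on `U` vanishes above `d`. -/
def Van (U : Opens T) (d : ℕ) (M : _root_.ModSite.Mod O) : Prop :=
  ∀ k, d < k → Subsingleton (_root_.ModSite.HU O M k U)

/-- Cohomology on a quasi-compact open of a sum is supported on finitely many summands. -/
theorem exists_cut_hu {U : Opens T} (hU : IsCompact (U : Set T)) (n : ℕ) {ι : Type u}
    (F : ι → _root_.ModSite.Mod O) (z : Ext.{u} (Zs.obj U) (_root_.ModSite.toAb (∐ F)) n) :
    ∃ s : Finset ι, z.comp (Ext.mk₀ ((SheafOfModules.toSheaf _).map (cut F s))) (add_zero n) = z := by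
  classical
  let E := SheafOfModules.toSheaf.{u} (_root_.ModSite.ringSh O)
  haveI : PreservesColimitsOfShape (Finset (Discrete ι)) ((extFunctor.{u} n).obj (op (Zs.obj U))) :=
    ColimCoh.Main.preservesColimitsOfShape hU n
  haveI : ((extFunctor.{u} n).obj (op (Zs.obj U))).Additive :=
    ⟨fun {X Y f g} => by
      ext x
      change x.comp (Ext.mk₀ (f + g)) (add_zero n) =
        x.comp (Ext.mk₀ f) (add_zero n) + x.comp (Ext.mk₀ g) (add_zero n)
      rw [Ext.mk₀_add, Ext.comp_add]⟩
  haveI : PreservesFiniteCoproducts ((extFunctor.{u} n).obj (op (Zs.obj U))) := inferInstance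
  haveI : PreservesColimitsOfShape (Discrete ι) ((extFunctor.{u} n).obj (op (Zs.obj U))) :=
    DerCat.PresCoprod.preservesColimitsOfShape_discrete _ ι
  let H := E ⋙ (extFunctor.{u} n).obj (op (Zs.obj U))
  let c := isColimitCofanMkObjOfIsColimit H _ _ (coproductIsCoproduct F)
  let Q : AddSubgroup (H.obj (∐ F) : Type u) :=
    { carrier := { z | ∃ T : Finset ι, H.map (cut F T) z = z }
      zero_mem' := ⟨∅, map_zero _⟩
      add_mem' := by
        rintro a b ⟨T, hT⟩ ⟨T', hT'⟩
        refine ⟨T ∪ T', ?_⟩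
        have mono : ∀ (T T' : Finset ι), T ⊆ T' → ∀ z, H.map (cut F T) z = z →
            H.map (cut F T') z = z := fun T T' h z hz => by
          conv_lhs => rw [← hz]
          rw [← ConcreteCategory.comp_apply, ← H.map_comp, cut_comp F h, hz]
        rw [map_add, mono _ _ Finset.subset_union_left _ hT, mono _ _ Finset.subset_union_right _ hT']
      neg_mem' := by
        rintro a ⟨T, hT⟩
        exact ⟨T, by rw [map_neg, hT]⟩ }
  let q : H.obj (∐ F) ⟶ AddCommGrpCat.of ((H.obj (∐ F) : Type u) ⧸ Q) :=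
    AddCommGrpCat.ofHom (QuotientAddGroup.mk' Q)
  have hq : q = 0 := Cofan.IsColimit.hom_ext c _ _ fun i => by
    refine AddCommGrpCat.ext fun g => ?_
    change QuotientAddGroup.mk' Q (H.map (Sigma.ι F i) g) = 0
    refine (QuotientAddGroup.eq_zero_iff _).2 ⟨{i}, ?_⟩
    rw [← ConcreteCategory.comp_apply, ← H.map_comp, ι_cut,
      if_pos (Finset.mem_singleton_self i)]
  obtain ⟨s, hs⟩ := (QuotientAddGroup.eq_zero_iff z).1 (ConcreteCategory.congr_hom hq z)
  exact ⟨s, hs⟩

theorem Van.of_iso {U : Opens T} {d : ℕ} {M N : _root_.ModSite.Mod O} (h : Van U d M) (e : M ≅ N) :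
    Van U d N := fun k hk => by
  have := h k hk
  refine subsingleton_of_forall_eq 0 fun x => ?_
  let e' := (SheafOfModules.toSheaf _).mapIso e
  let x' : Ext.{u} (Zs.obj U) (_root_.ModSite.toAb N) k := x
  change x' = 0
  have hz : x'.comp (Ext.mk₀ e'.inv) (add_zero k) = 0 :=
    Subsingleton.elim (α := _root_.ModSite.HU O M k U) _ 0
  rw [← Ext.comp_mk₀_id x', ← e'.inv_hom_id, ← Ext.mk₀_comp_mk₀, ← Ext.comp_assoc_of_second_deg_zero, hz,
    Ext.zero_comp]

theorem Van.of_isZero {U : Opens T} {d : ℕ} {M : _root_.ModSite.Mod O} (h : IsZero M) : Van U d M :=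
  fun k _ => subsingleton_of_forall_eq 0 fun x => by
    let x' : Ext.{u} (Zs.obj U) (_root_.ModSite.toAb M) k := x
    change x' = 0
    rw [← Ext.comp_mk₀_id x', ((SheafOfModules.toSheaf _).map_isZero h).eq_of_src (𝟙 _) 0, Ext.mk₀_zero,
      Ext.comp_zero]

theorem Van.sigma {U : Opens T} (hU : IsCompact (U : Set T)) {d : ℕ} {ι : Type u}
    (F : ι → _root_.ModSite.Mod O) (h : ∀ i, Van U d (F i)) : Van U d (∐ F) := fun k hk => by
  refine subsingleton_of_forall_eq 0 fun x => ?_
  let x' : Ext.{u} (Zs.obj U) (_root_.ModSite.toAb (∐ F)) k := x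
  change x' = 0
  obtain ⟨s, hs⟩ := exists_cut_hu hU k F x'
  haveI : (SheafOfModules.toSheaf.{u} (_root_.ModSite.ringSh O)).Additive := inferInstance
  let φ : ((∐ F) ⟶ ∐ F) →+ Ext.{u} (Zs.obj U) (_root_.ModSite.toAb (∐ F)) k :=
    AddMonoidHom.mk' (fun a => x'.comp (Ext.mk₀ ((SheafOfModules.toSheaf _).map a)) (add_zero k))
      fun a b => by rw [Functor.map_add, Ext.mk₀_add, Ext.comp_add]
  rw [← hs]
  change φ (cut F s) = 0
  rw [cut, map_sum]
  refine Finset.sum_eq_zero fun i _ => ?_
  change x'.comp (Ext.mk₀ ((SheafOfModules.toSheaf _).map (proj F i ≫ Sigma.ι F i))) (add_zero k) = 0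
  rw [Functor.map_comp, ← Ext.mk₀_comp_mk₀, ← Ext.comp_assoc_of_second_deg_zero,
    show x'.comp (Ext.mk₀ ((SheafOfModules.toSheaf _).map (proj F i))) (add_zero k) = 0 from
      Subsingleton.elim (α := _root_.ModSite.HU O (F i) k U) (h := h i k hk) _ 0, Ext.zero_comp]

/-- The cohomology of the sum of complexes vanishes as that of the summands. -/
theorem van_homology_sigma {U : Opens T} (hU : IsCompact (U : Set T)) {d : ℕ} {ι : Type u}
    (E : ι → DerivedCategory (_root_.ModSite.Mod O)) [HasCoproduct E] (j : ℤ)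
    (h : ∀ i, Van U d (SiteCmp.HMod (E i) j)) : Van U d (SiteCmp.HMod (∐ E) j) := by
  haveI := DerivedOX.Grothendieck.isGrothendieckAbelian_sheafOfModules (_root_.ModSite.ringSh O)
  haveI := preservesColimit_homology E j
  exact (Van.sigma hU _ h).of_iso (PreservesCoproduct.iso (homologyFunctor _ j) E).symm

/-- A complex with cohomology of bounded dimension receives no map from test objects of high degree. -/
theorem homZero_high (B : Set (Opens T)) (hB : Opens.IsBasis B) (g : _root_.ModSite.Mod O) (d : ℕ)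
    (X : DerivedCategory (_root_.ModSite.Mod O)) (hX : ∀ V ∈ B, ∀ j, Van V 0 (SiteCmp.HMod X j))
    (hg : ∀ j k, d < k → ExtVanish g (SiteCmp.HMod X j) k) (e : ℤ)
    (he : ∀ j, e < j → IsZero (SiteCmp.HMod X j)) (m : ℤ) (hm : e + d < m) : HomZero (W g m) X := by
  haveI : HasLimitsOfShape (Discrete ℕ) (DerivedCategory (_root_.ModSite.Mod O)) :=
    DerCat.HProd.hasLimitsOfShape_derivedCategory
  have hL : CohCx.IsRlimVia (CohCx.truncTower X) (CohCx.truncTowerMap X) X (CohCx.toTruncTower X) :=
    Trunc.isRlimVia_truncTower X (ModSheaf.isDetecting O)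
      (AffinePushD.cofinalGood B hB _ (fun m : ℤ => (-m).toNat) fun V hV m n hn =>
        ModSheaf.extVanish_of_subsingleton_hu O V _ _ (hX V hV _ _ (by
          have hn' : (-m).toNat ≤ n := hn
          omega)))
  let N : ℕ := ((d : ℤ) - m).toNat
  have hN : (d : ℤ) - m ≤ (N : ℤ) := Int.self_le_toNat _
  have hinj := (Trunc.bijective_trunc X hL (g := g) m N
    (fun k n hk _ hn => hg _ _ (by omega)) N le_rfl).1
  haveI : (CohCx.truncTower X N).IsGE (-(N : ℤ)) :=
    (inferInstance : TStructure.t.IsGE ((TStructure.t.truncGE (-(N : ℤ))).obj X) (-(N : ℤ)))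
  have h0 : HomZero (W g m) (CohCx.truncTower X N) := by
    refine homZero_of_forall (m + 1 + N).toNat (-(N : ℤ)) _ (by omega) fun q hq hqm => ?_
    have hiso := Trunc.isIso_homologyMap_toTruncTower X N q hq
    refine ExtVanish.of_iso ?_ (@asIso _ _ _ _ _ hiso)
    by_cases hqe : e < q
    · exact extVanish_of_isZero g (he q hqe) _
    · exact hg q _ (by omega)
  exact fun f => hinj ((h0 _).trans zero_comp.symm)

variable {S : TopCat.{u}} {O' : Sheaf (Opens.grothendieckTopology S) CommRingCat.{u}}
  (f : _root_.ModSite.RMor O O')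

/-- Maps out of `f^*` of a free module into uniformly bounded below sums are finitely supported. -/
theorem fin'_pull_free {V : Opens S} (hV : IsCompact ((f.fn.obj V : Opens T) : Set T))
    {ι : Type u} (M : ι → DerivedCategory (_root_.ModSite.Mod O)) [HasCoproduct M] (a : ℤ)
    (hM : ∀ i, (M i).IsGE a) (m : ℤ) :
    Fin' M (W (f.pull.obj ((ModSheaf.free O').obj V)) m) := by
  haveI := DerivedOX.Grothendieck.isGrothendieckAbelian_sheafOfModules (_root_.ModSite.ringSh O)
  let g := f.pull.obj ((ModSheaf.free O').obj V)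
  let E := SheafOfModules.toSheaf.{u} (_root_.ModSite.ringSh O)
  let η : (AbSheaf.free (Opens.grothendieckTopology T)).obj (f.fn.obj V) ⟶ E.obj g :=
    ModPush.e f V g (𝟙 g)
  have hη : ∀ (N : _root_.ModSite.Mod O) (s : g ⟶ N), η ≫ E.map s = ModPush.e f V N s := fun N s => by
    rw [← ModPush.e_right, Category.id_comp]
  refine fin'_W g (fun n κ F x => ?_) M a hM m
  have hbij := FreeCompact.ExtCollection.cmp_bijective E η (fun N => by
      rw [show (fun s : g ⟶ N => η ≫ E.map s) = ModPush.e f V N from funext (hη N)]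
      exact (ModPush.e f V N).bijective)
    (fun I _ p => SiteCoh.FreeSheaf.subsingleton_hu_of_isTotallyAcyclic
      (ModSS29.TA.ta_injective O I) (f.fn.obj V) p) n
  obtain ⟨s, hs⟩ := exists_cut_hu hV n F (FreeCompact.ExtCollection.cmp E η (∐ F) n x)
  refine ⟨s, (hbij (∐ F)).1 ?_⟩
  rw [FreeCompact.ExtCollection.cmp_comp, Ext.mapExactFunctor_mk₀]
  exact hs

variable [HasInjectiveResolutions (_root_.ModSite.Mod O)]
  (B : Set (Opens T)) (hB : Opens.IsBasis B) (hBc : ∀ V ∈ B, IsCompact (V : Set T))
  (B' : Set (Opens S)) (hB' : Opens.IsBasis B')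
  (hB'c : ∀ V ∈ B', IsCompact ((f.fn.obj V : Opens T) : Set T))
  {ι : Type u} (E : ι → DerivedCategory (_root_.ModSite.Mod O)) (n : ℕ)
  (h₀ : ∀ V ∈ B, ∀ i j, Van V 0 (SiteCmp.HMod (E i) j))
  (h₁ : ∀ V ∈ B', ∀ i j, Van (f.fn.obj V) n (SiteCmp.HMod (E i) j))

include hB hBc hB' hB'c h₀ h₁ in
/-- Maps out of the test objects into the sum are finitely supported. -/
theorem fin'_test [HasCoproduct E] {V : Opens S} (hV : V ∈ B') (m : ℤ) :
    Fin' E (W (f.pull.obj ((ModSheaf.free O').obj V)) m) := by
  haveI := DerivedOX.Grothendieck.isGrothendieckAbelian_sheafOfModules (_root_.ModSite.ringSh O)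
  haveI := CohDimFin.hasCoproducts (A := _root_.ModSite.Mod O) ι
  let g := f.pull.obj ((ModSheaf.free O').obj V)
  let N : ℕ := ((n : ℤ) - m).toNat
  have hN : (n : ℤ) - m ≤ (N : ℤ) := Int.self_le_toNat _
  let tt : ι → Pretriangulated.Triangle (DerivedCategory (_root_.ModSite.Mod O)) := fun i =>
    (TStructure.t.triangleLTGE (-(N : ℤ))).obj (E i)
  have hT : ∀ i, tt i ∈ distTriang _ := fun i => TStructure.t.triangleLTGE_distinguished _ (E i)
  have hhigh : HomZero (W g m) (∐ fun i => (tt i).obj₁) := by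
    have hz : ∀ i j, -(N : ℤ) - 1 < j → IsZero (SiteCmp.HMod (tt i).obj₁ j) := fun i j hj =>
      @DerivedCategory.isZero_of_isLE _ _ _ _ _ (-(N : ℤ) - 1) j hj
        (inferInstance : TStructure.t.IsLE ((TStructure.t.truncLT (-(N : ℤ))).obj (E i)) (-(N : ℤ) - 1))
    have key : ∀ (U : Opens T) (d : ℕ), (∀ i j, Van U d (SiteCmp.HMod (E i) j)) →
        ∀ i j, Van U d (SiteCmp.HMod (tt i).obj₁ j) := fun U d hU i j => by
      by_cases hj : j < -(N : ℤ)
      · haveI := @DerCat.TStruct.isIso_homologyMap_mor₁ _ _ _ _ (tt i) (hT i) (-(N : ℤ))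
          (inferInstance : TStructure.t.IsGE ((TStructure.t.truncGE (-(N : ℤ))).obj (E i)) (-(N : ℤ)))
          j hj
        exact (hU i j).of_iso (asIso ((homologyFunctor _ j).map (tt i).mor₁)).symm
      · exact Van.of_isZero (hz i j (by omega))
    refine homZero_high B hB g n _ (fun U hU j => van_homology_sigma (hBc U hU) _ j
      fun i => key U 0 (h₀ U hU) i j) (fun j k hk => ModPush.extVanish_of_subsingleton_hu f V _ k
        (van_homology_sigma (hB'c V hV) _ j (fun i => key _ n (h₁ V hV) i j) k hk))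
      (-(N : ℤ) - 1) (fun j hj => ?_) m (by omega)
    haveI := preservesColimit_homology (fun i => (tt i).obj₁) j
    refine IsZero.of_iso ?_ (PreservesCoproduct.iso (homologyFunctor _ j) fun i => (tt i).obj₁)
    exact (IsZero.iff_id_eq_zero _).2 (Sigma.hom_ext _ _ fun i => (hz i j hj).eq_of_src _ _)
  exact fin'_ext₂ tt hT (fun x => ⟨∅, by rw [hhigh x, zero_comp]⟩)
    (fin'_pull_free f (hB'c V hV) (fun i => (tt i).obj₃) (-(N : ℤ))
      (fun i => (inferInstance : TStructure.t.IsGE ((TStructure.t.truncGE (-(N : ℤ))).obj (E i)) (-(N : ℤ)))) m)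

include hB hBc hB' hB'c h₀ h₁ in
/-- The derived direct image preserves the sum. -/
theorem preservesColimit [SiteCmp.HasRpushD f] :
    PreservesColimit (Discrete.functor E) (SiteCmp.RpushD f) := by
  haveI := DerivedOX.Grothendieck.isGrothendieckAbelian_sheafOfModules (_root_.ModSite.ringSh O)
  haveI := DerivedOX.Grothendieck.isGrothendieckAbelian_sheafOfModules (_root_.ModSite.ringSh O')
  haveI := CohDimFin.hasCoproducts (A := _root_.ModSite.Mod O) ι
  haveI := CohDimFin.hasCoproducts (A := _root_.ModSite.Mod O') ι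
  haveI : PreservesColimit (Discrete.functor E) (RightPres.R f.push) := by
    let R := RightPres.R f.push
    suffices h : ∀ j, IsIso ((homologyFunctor (_root_.ModSite.Mod O') j).map (sigmaComparison R E)) by
      haveI : IsIso (sigmaComparison R E) :=
        (DerivedCategory.isIso_iff (_root_.ModSite.Mod O') _).2 h
      exact PreservesCoproduct.of_iso_comparison R E
    intro j
    let H := homologyFunctor (_root_.ModSite.Mod O') j
    haveI := preservesColimit_homology (fun i => R.obj (E i)) j
    let c := sigmaComparison H (fun i => R.obj (E i)) ≫ H.map (sigmaComparison R E)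
    have hc : ∀ i, Sigma.ι (fun i => H.obj (R.obj (E i))) i ≫ c = H.map (R.map (Sigma.ι E i)) := fun i => by
      simp only [c, ← Category.assoc, ι_comp_sigmaComparison]
      rw [← Functor.map_comp, ι_comp_sigmaComparison]
    suffices IsIso c from IsIso.of_isIso_comp_left (sigmaComparison H fun i => R.obj (E i)) _
    let G := R ⋙ H
    have hproj : ∀ i, c ≫ G.map (proj E i) = proj (fun i => H.obj (R.obj (E i))) i := fun i =>
      Sigma.hom_ext _ _ fun k => by
        rw [← Category.assoc, hc]
        refine ((Functor.map_comp G _ _).symm).trans ?_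
        rcases eq_or_ne k i with rfl | hki
        · rw [ι_proj, ι_proj, G.map_id]; try rfl
        · rw [ι_proj_ne E hki, ι_proj_ne _ hki, G.map_zero]
          try rfl
    haveI : Mono c := Preadditive.mono_of_cancel_zero _ fun {Q} k hk => by
      refine (ModSheaf.isDetecting O').separating k fun U s => ?_
      obtain ⟨S', hS', hS''⟩ := FreeCompact.exists_local_cut O' _ (s ≫ k)
      refine (ModSheaf.isDetecting O').eq_zero_of_local _ S' hS' fun Y g hg => ?_
      obtain ⟨t, ht⟩ := hS'' g hg
      rw [← ht, DerCat.Compact.cut, Preadditive.comp_sum]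
      refine Finset.sum_eq_zero fun i _ => ?_
      have h : (s ≫ k) ≫ proj (fun i => H.obj (R.obj (E i))) i = 0 := by
        rw [← hproj, Category.assoc, ← Category.assoc k, hk, zero_comp, comp_zero]
      change ((ModSheaf.free O').map g ≫ s ≫ k) ≫ proj (fun i => H.obj (R.obj (E i))) i ≫
        Sigma.ι (fun i => H.obj (R.obj (E i))) i = 0
      rw [← Category.assoc, Category.assoc ((ModSheaf.free O').map g), h, comp_zero, zero_comp]
    haveI : Epi c := Preadditive.epi_of_cancel_zero _ fun {Q} π hπ => by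
      refine (ModSheaf.isDetecting O').separating π fun U s => ?_
      obtain ⟨S', hS', hS''⟩ := (RightPres.pres f.adj (ModSheaf.isDetecting O') j).exists_lift s
      refine (ModSheaf.isDetecting O').eq_zero_of_local _
        { arrows := fun Y g => (ModSheaf.free O').map g ≫ s ≫ π = 0
          downward_closed := fun {Y Z g} hg g' => by rw [Functor.map_comp, Category.assoc, hg, comp_zero] }
        ?_ fun Y g hg => hg
      intro x hx
      obtain ⟨Y, g, hg, hxY⟩ := hS' x hx
      obtain ⟨V, hV, hxV, hVY⟩ := Opens.isBasis_iff_nbhd.1 hB' hxY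
      refine ⟨V, homOfLE hVY ≫ g, ?_, hxV⟩
      obtain ⟨w, hw⟩ := hS'' (homOfLE hVY ≫ g) (S'.downward_closed hg _)
      obtain ⟨t, ht⟩ := fin'_test f B hB hBc B' hB' hB'c E n h₀ h₁ hV j w
      show (ModSheaf.free O').map (homOfLE hVY ≫ g) ≫ s ≫ π = 0
      rw [← Category.assoc, ← hw, ← ht]
      refine (congrArg (· ≫ π)
        ((RightPres.pres f.adj (ModSheaf.isDetecting O') j).θ_comp w _)).trans ?_
      haveI : (DerivedOX.RightDerived.resFunctor (_root_.ModSite.Mod O)).Additive :=
        (DerivedOX.RightDerived.resAdj (_root_.ModSite.Mod O)).right_adjoint_additive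
      haveI : R.Additive := Functor.instAdditiveComp _ _
      haveI : G.Additive := Functor.instAdditiveComp R H
      have hG : G.map (cut E t) ≫ π = 0 := by
        rw [cut, Functor.map_sum, Preadditive.sum_comp]
        refine Finset.sum_eq_zero fun i _ => ?_
        rw [Functor.map_comp, Category.assoc,
          show G.map (Sigma.ι E i) = H.map (R.map (Sigma.ι E i)) from rfl, ← hc i, Category.assoc, hπ,
          comp_zero, comp_zero]
      exact (Category.assoc _ _ _).trans ((congrArg _ hG).trans comp_zero)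
    exact isIso_of_mono_of_epi c
  exact preservesColimit_of_natIso _
    (DerivedOX.RightDerived.totalRightDerivedIso (SiteCmp.pushKh f))

end Groth.Agent.H22.CohDimCoprod
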