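import Mathlib.CategoryTheory.Adjunction.FullyFaithful
import Mathlib.CategoryTheory.Limits.Preserves.Filtered
import Mathlib.CategoryTheory.Limits.Types.Filtered
import Mathlib.CategoryTheory.Limits.Presentation
import Mathlib.CategoryTheory.ObjectProperty.Ind
import Mathlib.CategoryTheory.ObjectProperty.ColimitsOfShape
import Mathlib.CategoryTheory.Preadditive.Basic
import Mathlib.CategoryTheory.ObjectProperty.FullSubcategory

/-!
# Coreflections onto subcategories generated by finitely presentable objects (helper22)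
-/

set_option autoImplicit false
set_option linter.style.haveILetI false

universe u v

open CategoryTheory CategoryTheory.Limits Opposite

namespace Groth.Agent.H22.CoreflectColim

variable {C : Type v} [Category.{u} C] [Preadditive C]

/-- A map seen bijectively by the objects of a dense class is an isomorphism. -/
theorem isIso_of_bijective (S : ObjectProperty C) {A B : C} (hA : ObjectProperty.ind.{u} S A)
    (hB : ObjectProperty.ind.{u} S B) (φ : A ⟶ B)
    (h : ∀ T, S T → Function.Bijective fun a : T ⟶ A => a ≫ φ) : IsIso φ := by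
  obtain ⟨J, _, _, pB, hpB⟩ := hB
  obtain ⟨I, _, _, pA, hpA⟩ := hA
  choose g hg using fun j => (h _ (hpB j)).2 (pB.ι.app j)
  replace hg : ∀ j, g j ≫ φ = pB.ι.app j := hg
  let c : Cocone pB.diag :=
    { pt := A
      ι :=
        { app := g
          naturality := fun j k a => by
            refine (h _ (hpB j)).1 ?_
            show (pB.diag.map a ≫ g k) ≫ φ = (g j ≫ 𝟙 A) ≫ φ
            rw [Category.assoc, Category.comp_id, hg, hg]
            exact (pB.ι.naturality a).trans (Category.comp_id _) } }
  let ψ : B ⟶ A := pB.isColimit.desc c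
  have hψ : ∀ j, pB.ι.app j ≫ ψ = g j := pB.isColimit.fac c
  have hψφ : ψ ≫ φ = 𝟙 B := pB.isColimit.hom_ext fun j => by
    show pB.ι.app j ≫ ψ ≫ φ = pB.ι.app j ≫ 𝟙 B
    rw [← Category.assoc, hψ]
    exact (hg j).trans (Category.comp_id _).symm
  refine ⟨ψ, pA.isColimit.hom_ext fun i => (h _ (hpA i)).1 ?_, hψφ⟩
  show (pA.ι.app i ≫ φ ≫ ψ) ≫ φ = (pA.ι.app i ≫ 𝟙 A) ≫ φ
  rw [Category.assoc, Category.assoc, hψφ]
  exact (congrArg (pA.ι.app i ≫ ·) (Category.comp_id φ)).trans
    (congrArg (· ≫ φ) (Category.comp_id (pA.ι.app i)).symm)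

/-- A right adjoint of the inclusion preserves filtered colimits if the objects are colimits of
finitely presentable ones in the subcategory. -/
theorem preservesColimit (P : ObjectProperty C) (Q : C ⥤ P.FullSubcategory) (adj : P.ι ⊣ Q)
    (J : Type u) [SmallCategory J] [IsFiltered J] [HasColimitsOfShape J C] [P.IsClosedUnderColimitsOfShape J]
    (S : ObjectProperty C) (hSP : S ≤ P) (hden : P ≤ ObjectProperty.ind.{u} S)
    (hfp : ∀ T, S T → ∀ D : J ⥤ C, PreservesColimit D (coyoneda.obj (op T))) (K : J ⥤ C) :
    PreservesColimit K Q := by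
  haveI : ReflectsColimit (K ⋙ Q) P.ι := inferInstance
  suffices PreservesColimit K (Q ⋙ P.ι) from preservesColimit_of_reflects_of_preserves Q P.ι
  let D := K ⋙ Q ⋙ P.ι
  let φ : colimit D ⟶ (Q ⋙ P.ι).obj (colimit K) := colimit.post K (Q ⋙ P.ι)
  have hφ : ∀ j, colimit.ι D j ≫ φ = P.ι.map (Q.map (colimit.ι K j)) :=
    fun j => colimit.ι_post K (Q ⋙ P.ι) j
  have hε : ∀ {X Y : C} (f : X ⟶ Y),
      P.ι.map (Q.map f) ≫ adj.counit.app Y = adj.counit.app X ≫ f := fun f => adj.counit.naturality f
  have huniq : ∀ {T : C} (_ : P T) (M : C) (a b : T ⟶ P.ι.obj (Q.obj M)),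
      a ≫ adj.counit.app M = b ≫ adj.counit.app M → a = b := by
    intro T hT M a b hab
    have h := (adj.homEquiv ⟨T, hT⟩ M).symm.injective
      (a₁ := ObjectProperty.homMk a) (a₂ := ObjectProperty.homMk b) (by
        rw [adj.homEquiv_counit, adj.homEquiv_counit]
        exact hab)
    exact congrArg (fun t => t.hom) h
  have hD : P (colimit D) := (P.colimitsOfShape_le J) _
    ⟨{ toColimitPresentation := ⟨D, (colimit.cocone D).ι, colimit.isColimit D⟩
       prop_diag_obj := fun j => (Q.obj (K.obj j)).property }⟩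
  haveI : IsIso φ := by
    refine isIso_of_bijective S (hden _ hD) (hden _ (Q.obj (colimit K)).property) φ fun T hT => ?_
    have hPT : P T := hSP _ hT
    haveI := hfp T hT D
    haveI := hfp T hT K
    have hcD := isColimitOfPreserves (coyoneda.obj (op T)) (colimit.isColimit D)
    have hcK := isColimitOfPreserves (coyoneda.obj (op T)) (colimit.isColimit K)
    constructor
    · intro a b hab
      rw [← sub_eq_zero]
      have h0 : (a - b) ≫ φ = 0 := by
        rw [Preadditive.sub_comp, sub_eq_zero]; exact hab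
      obtain ⟨j, x, hx⟩ := Types.jointly_surjective _ hcD (a - b)
      change T ⟶ D.obj j at x
      have hx' : x ≫ colimit.ι D j = a - b := hx
      change T ⟶ P.ι.obj (Q.obj (K.obj j)) at x
      have hz : (x ≫ adj.counit.app (K.obj j)) ≫ colimit.ι K j =
          (0 : T ⟶ K.obj j) ≫ colimit.ι K j := by
        rw [zero_comp, Category.assoc]
        refine (congrArg (x ≫ ·) (hε (colimit.ι K j)).symm).trans ?_
        refine (Category.assoc _ _ _).symm.trans ?_
        refine (congrArg (fun t => (x ≫ t) ≫ adj.counit.app (colimit K)) (hφ j).symm).trans ?_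
        refine (congrArg (· ≫ adj.counit.app (colimit K)) ((Category.assoc _ _ _).symm.trans
          ((congrArg (· ≫ φ) hx').trans h0))).trans ?_
        exact zero_comp
      obtain ⟨k, f, g, e⟩ := (Types.FilteredColimit.isColimit_eq_iff (K ⋙ coyoneda.obj (op T)) hcK).1 hz
      have e' : (x ≫ adj.counit.app (K.obj j)) ≫ K.map f = (0 : T ⟶ K.obj j) ≫ K.map g := e
      have hk : x ≫ P.ι.map (Q.map (K.map f)) = 0 := huniq hPT (K.obj k) _ _ (by
        refine (Category.assoc _ _ _).trans ((congrArg (x ≫ ·) (hε (K.map f))).trans ?_)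
        refine (Category.assoc _ _ _).symm.trans (e'.trans ?_)
        exact zero_comp.trans zero_comp.symm)
      rw [← hx', ← colimit.w D f]
      exact (Category.assoc _ _ _).symm.trans
        ((congrArg (· ≫ colimit.ι D k) hk).trans zero_comp)
    · intro t
      obtain ⟨j, s, hs⟩ := Types.jointly_surjective _ hcK (t ≫ adj.counit.app (colimit K))
      change T ⟶ K.obj j at s
      have hs' : s ≫ colimit.ι K j = t ≫ adj.counit.app (colimit K) := hs
      let s' : T ⟶ P.ι.obj (Q.obj (K.obj j)) := (adj.homEquiv ⟨T, hPT⟩ (K.obj j) s).hom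
      have hse : s' ≫ adj.counit.app (K.obj j) = s := by
        have h := (adj.homEquiv ⟨T, hPT⟩ (K.obj j)).symm_apply_apply s
        rw [adj.homEquiv_counit] at h
        exact h
      refine ⟨s' ≫ colimit.ι D j, huniq hPT _ _ _ ?_⟩
      show ((s' ≫ colimit.ι D j) ≫ φ) ≫ adj.counit.app (colimit K) = t ≫ adj.counit.app (colimit K)
      refine (congrArg (· ≫ adj.counit.app (colimit K))
        ((Category.assoc _ _ _).trans (congrArg (s' ≫ ·) (hφ j)))).trans ?_
      refine (Category.assoc _ _ _).trans ((congrArg (s' ≫ ·) (hε (colimit.ι K j))).trans ?_)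
      exact (Category.assoc _ _ _).symm.trans ((congrArg (· ≫ colimit.ι K j) hse).trans hs')
  exact preservesColimit_of_isIso_post (Q ⋙ P.ι) K

end Groth.Agent.H22.CoreflectColim
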