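import Groth.Agent.Lib.FreeCompact.Derived
import Groth.Agent.Lib.FreeCompact.Local
import Groth.Agent.Lib.DerCat.HocolimQ
import Groth.Agent.Lib.Triangulated.Sums
import Groth.Agent.Lib.DerCat.HProd
import Groth.Agent.Lib.RlimTrunc.Single
import Mathlib.Algebra.Homology.DerivedCategory.Ext.Basic
import Mathlib.Algebra.Homology.DerivedCategory.TStructure
import Mathlib.CategoryTheory.Triangulated.TStructure.TruncLEGT

/-!
# Finitely supported maps into sums in derived categories, in any universe (helper22)
-/

set_option autoImplicit false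
set_option maxHeartbeats 1000000
set_option linter.unusedSectionVars false
set_option linter.style.haveILetI false

universe w w' t v u

open CategoryTheory CategoryTheory.Limits CategoryTheory.Pretriangulated

namespace Groth.Agent.H22.CohDimFin

open Groth.Agent.Lib.DerCat

section Gen

variable {D : Type u} [Category.{v} D] [Preadditive D] {ι : Type t} (X : ι → D) [HasCoproduct X]

open Classical in
/-- The projection of a sum onto a summand. -/
noncomputable def proj (i : ι) : (∐ X) ⟶ X i :=
  Sigma.desc fun j => if h : j = i then eqToHom (by rw [h]) else 0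

lemma ι_proj (i : ι) : Sigma.ι X i ≫ proj X i = 𝟙 _ := by simp [proj]

lemma ι_proj_ne {i j : ι} (h : j ≠ i) : Sigma.ι X j ≫ proj X i = 0 := by simp [proj, h]

/-- The idempotent cutting out a finite set of summands. -/
noncomputable def cut (s : Finset ι) : (∐ X) ⟶ ∐ X := ∑ i ∈ s, proj X i ≫ Sigma.ι X i

open Classical in
lemma ι_cut (s : Finset ι) (i : ι) :
    Sigma.ι X i ≫ cut X s = if i ∈ s then Sigma.ι X i else 0 := by
  rw [cut, Preadditive.comp_sum]
  split_ifs with h
  · rw [Finset.sum_eq_single i]
    · rw [← Category.assoc, ι_proj, Category.id_comp]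
    · intro j _ hj; rw [← Category.assoc, ι_proj_ne X (Ne.symm hj), zero_comp]
    · exact fun h' => (h' h).elim
  · refine Finset.sum_eq_zero fun j hj => ?_
    rw [← Category.assoc, ι_proj_ne X (fun e => h (by rw [e]; exact hj)), zero_comp]

lemma cut_comp {s s' : Finset ι} (h : s ⊆ s') : cut X s ≫ cut X s' = cut X s := by
  classical
  refine Sigma.hom_ext _ _ fun i => ?_
  rw [← Category.assoc, ι_cut]
  split_ifs with hi
  · rw [ι_cut, if_pos (h hi)]
  · rw [zero_comp]

lemma cut_mono {s s' : Finset ι} (h : s ⊆ s') {K : D} {x : K ⟶ ∐ X} (hx : x ≫ cut X s = x) :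
    x ≫ cut X s' = x := by
  conv_lhs => rw [← hx]
  rw [Category.assoc, cut_comp X h, hx]

/-- All maps from `K` into the sum are supported on finitely many summands. -/
def Fin' (K : D) : Prop := ∀ x : K ⟶ ∐ X, ∃ s : Finset ι, x ≫ cut X s = x

lemma cut_map {Y : ι → D} [HasCoproduct Y] (f : ∀ i, X i ⟶ Y i) (s : Finset ι) :
    cut X s ≫ Limits.Sigma.map f = Limits.Sigma.map f ≫ cut Y s := by
  refine Sigma.hom_ext _ _ fun i => ?_
  rw [← Category.assoc, ι_cut, ← Category.assoc, Sigma.ι_map, Category.assoc, ι_cut]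
  split_ifs with h
  · rw [Sigma.ι_map]
  · rw [zero_comp, comp_zero]

lemma fin'_of_iso {Y : ι → D} [HasCoproduct Y] (e : ∀ i, X i ≅ Y i) {K : D} (h : Fin' X K) : Fin' Y K := by
  intro x
  obtain ⟨s, hs⟩ := h (x ≫ Limits.Sigma.map fun i => (e i).inv)
  refine ⟨s, ?_⟩
  have hid : (Limits.Sigma.map fun i => (e i).inv) ≫ (Limits.Sigma.map fun i => (e i).hom) = 𝟙 (∐ Y) :=
    Sigma.hom_ext _ _ fun i => by simp
  have h' := congrArg (· ≫ Limits.Sigma.map fun i => (e i).hom) hs
  simp only [Category.assoc] at h'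
  rw [cut_map, ← Category.assoc (Limits.Sigma.map fun i => (e i).inv), hid, Category.id_comp, Category.comp_id] at h'
  exact h'

variable [HasZeroObject D] [HasShift D ℤ] [∀ n : ℤ, (shiftFunctor D n).Additive] [Pretriangulated D]

/-- Extension closure. -/
lemma fin'_ext₂ {K : D} (T : ι → Triangle D) (hT : ∀ i, T i ∈ distTriang D)
    [HasCoproduct fun i => (T i).obj₁] [HasCoproduct fun i => (T i).obj₂]
    [HasCoproduct fun i => (T i).obj₃]
    (h₁ : Fin' (fun i => (T i).obj₁) K) (h₃ : Fin' (fun i => (T i).obj₃) K) :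
    Fin' (fun i => (T i).obj₂) K := by
  classical
  intro x
  obtain ⟨s, hs⟩ := h₃ (x ≫ Limits.Sigma.map fun i => (T i).mor₂)
  have hz : (x - x ≫ cut (fun i => (T i).obj₂) s) ≫ (Limits.Sigma.map fun i => (T i).mor₂) = 0 := by
    rw [Preadditive.sub_comp, Category.assoc, cut_map, ← Category.assoc, hs, sub_self]
  obtain ⟨z, hz'⟩ : ∃ z, x - x ≫ cut (fun i => (T i).obj₂) s = z ≫ Limits.Sigma.map fun i => (T i).mor₁ :=
    Triangle.coyoneda_exact₂ _ (Groth.Agent.Lib.Triangulated.Sums.coproduct_distinguished T hT) _ hz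
  obtain ⟨s', hs'⟩ := h₁ z
  refine ⟨s ∪ s', ?_⟩
  have e : x = z ≫ (Limits.Sigma.map fun i => (T i).mor₁) + x ≫ cut (fun i => (T i).obj₂) s := by
    rw [← hz', sub_add_cancel]
  conv_lhs => rw [e]
  conv_rhs => rw [e]
  rw [Preadditive.add_comp]
  congr 1
  · rw [Category.assoc, ← cut_map, ← Category.assoc, cut_mono _ Finset.subset_union_right hs']
  · rw [Category.assoc, cut_comp _ Finset.subset_union_left]

end Gen

section Derived

variable {A : Type u} [Category.{v} A] [Abelian A] [IsGrothendieckAbelian.{v} A]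
  [HasDerivedCategory.{w} A] [(DerivedCategory.Qh (C := A)).IsLeftAdjoint]

local notation "ts" => (DerivedCategory.TStructure.t : Triangulated.TStructure (DerivedCategory A))

theorem hasCoproducts (ι : Type v) : HasColimitsOfShape (Discrete ι) (DerivedCategory A) :=
  HProd.hasColimitsOfShape_derivedCategory (J := ι)

/-- Cohomology objects commute with direct sums. -/
theorem preservesColimit_homology {ι : Type v} (Z : ι → DerivedCategory A) (n : ℤ) :
    PreservesColimit (Discrete.functor Z) (DerivedCategory.homologyFunctor A n) := by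
  let K : ι → CochainComplex A ℤ := fun i => DerivedCategory.Q.objPreimage (Z i)
  haveI := HocolimQ.preservesColimitsOfShape_Q (A := A) ι
  haveI : HasFiniteBiproducts A := HasFiniteBiproducts.of_hasFiniteProducts
  haveI := AB4.of_AB5 A
  haveI : HasExactColimitsOfShape (Discrete ι) A := AB4OfSize.ofShape _
  haveI : PreservesColimit (Discrete.functor K ⋙ DerivedCategory.Q)
      (DerivedCategory.homologyFunctor A n) := by
    refine preservesColimit_of_preserves_colimit_cocone
      (isColimitOfPreserves DerivedCategory.Q (coproductIsCoproduct K)) ?_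
    let c : Cofan K := Cofan.mk (∐ K) (Sigma.ι K)
    let e : Discrete.functor K ⋙ DerivedCategory.Q ⋙ DerivedCategory.homologyFunctor A n ≅
        Discrete.functor K ⋙ HomologicalComplex.homologyFunctor A (ComplexShape.up ℤ) n :=
      Functor.isoWhiskerLeft _ (DerivedCategory.homologyFunctorFactors A n)
    exact (IsColimit.equivOfNatIsoOfIso e
      ((DerivedCategory.Q ⋙ DerivedCategory.homologyFunctor A n).mapCocone c)
      ((HomologicalComplex.homologyFunctor A (ComplexShape.up ℤ) n).mapCocone c)
      (Cocone.ext ((DerivedCategory.homologyFunctorFactors A n).app (∐ K)) fun j => by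
        refine (Category.assoc _ _ _).trans ((Iso.inv_comp_eq (e.app j)).2 ?_)
        exact (DerivedCategory.homologyFunctorFactors A n).hom.naturality (Sigma.ι K j.as))).symm
      (isColimitOfPreserves _ (coproductIsCoproduct K))
  exact preservesColimit_of_iso_diagram _ (K₁ := Discrete.functor K ⋙ DerivedCategory.Q)
    (Discrete.natIso fun j => DerivedCategory.Q.objObjPreimageIso (Z j.as))

lemma isGE_sigma {ι : Type v} (M : ι → DerivedCategory A) [HasCoproduct M] (a : ℤ)
    (hM : ∀ i, (M i).IsGE a) : DerivedCategory.IsGE (∐ M) a := by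
  rw [DerivedCategory.isGE_iff]
  intro n hn
  haveI := preservesColimit_homology M n
  rw [IsZero.iff_id_eq_zero]
  refine (isColimitOfPreserves (DerivedCategory.homologyFunctor A n)
    (colimit.isColimit (Discrete.functor M))).hom_ext fun j => ?_
  exact ((DerivedCategory.isGE_iff (M j.as) a).1 (hM j.as) n hn).eq_of_src _ _

lemma fin'_isGE_one (G : A) {ι : Type v} (M : ι → DerivedCategory A) [HasCoproduct M]
    (hM : ∀ i, (M i).IsGE 1) : Fin' M ((DerivedCategory.singleFunctor A 0).obj G) := fun x => by
  haveI := isGE_sigma M 1 hM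
  refine ⟨∅, ?_⟩
  rw [(ts).zero_of_isLE_of_isGE x 0 1 (by norm_num) inferInstance inferInstance, zero_comp]

variable [HasExt.{w'} A] (G : A)
  (hG : ∀ (n : ℕ) (ι : Type v) (F : ι → A) (x : Abelian.Ext.{w'} G (∐ F) n),
    ∃ s : Finset ι, x.comp (Abelian.Ext.mk₀ (cut F s)) (add_zero n) = x)

include hG in
lemma fin'_single {ι : Type v} (H : ι → A) (d : ℤ) (hd : d ≤ 0)
    [HasCoproduct fun i => (DerivedCategory.singleFunctor A d).obj (H i)] :
    Fin' (fun i => (DerivedCategory.singleFunctor A d).obj (H i))
      ((DerivedCategory.singleFunctor A 0).obj G) := by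
  intro x
  let R := DerivedCategory.singleFunctor A d
  haveI := HocolimQ.preservesColimitsOfShape_Q (A := A) ι
  haveI : PreservesColimitsOfShape (Discrete ι)
      (HomologicalComplex.single A (ComplexShape.up ℤ) d ⋙ DerivedCategory.Q) := inferInstance
  let eR : HomologicalComplex.single A (ComplexShape.up ℤ) d ⋙ DerivedCategory.Q ≅ R :=
    ((SingleFunctors.evaluation _ _ d).mapIso (DerivedCategory.singleFunctorsPostcompQIso A)).symm
  haveI : PreservesColimitsOfShape (Discrete ι) R := preservesColimitsOfShape_of_natIso eR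
  let θ : (∐ fun i => R.obj (H i)) ≅ R.obj (∐ H) := (PreservesCoproduct.iso R H).symm
  have hθ : ∀ i, Sigma.ι (fun i => R.obj (H i)) i ≫ θ.hom = R.map (Sigma.ι H i) := fun i => by
    simp [θ, PreservesCoproduct.inv_hom]
  obtain ⟨n, hn⟩ : ∃ n : ℕ, (n : ℤ) + d = 0 := ⟨(-d).toNat, by omega⟩
  let σ := ((DerivedCategory.singleFunctors A).shiftIso (n : ℤ) d 0 hn)
  let e : Abelian.Ext.{w'} G (∐ H) n := Abelian.Ext.homEquiv.symm (x ≫ θ.hom ≫ σ.inv.app (∐ H))
  obtain ⟨T, hT⟩ := hG n ι H e
  refine ⟨T, ?_⟩
  have hcut : cut (fun i => R.obj (H i)) T ≫ θ.hom = θ.hom ≫ R.map (cut H T) := by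
    refine Sigma.hom_ext _ _ fun i => ?_
    rw [← Category.assoc, ι_cut, ← Category.assoc, hθ, ← Functor.map_comp, ι_cut]
    split_ifs with hi
    · exact hθ i
    · simp
  have h := congrArg Abelian.Ext.hom hT
  rw [Abelian.Ext.comp_hom, Abelian.Ext.mk₀_hom, ShiftedHom.comp_mk₀] at h
  have he : e.hom = x ≫ θ.hom ≫ σ.inv.app (∐ H) := Equiv.apply_symm_apply _ _
  rw [he] at h
  have hnat := σ.inv.naturality (cut H T)
  rw [← cancel_mono θ.hom, ← cancel_mono (σ.inv.app (∐ H))]
  simp only [Category.assoc]
  rw [reassoc_of% hcut]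
  refine Eq.trans ?_ h
  simp only [Category.assoc]
  exact congrArg (fun z => x ≫ θ.hom ≫ z) hnat

include hG in
lemma fin'_bounded : ∀ (k : ℕ) {ι : Type v} (M : ι → DerivedCategory A) [HasCoproduct M] (b : ℤ),
    b ≤ 0 → (∀ i, (M i).IsGE (b - k)) → (∀ i, (M i).IsLE b) →
    Fin' M ((DerivedCategory.singleFunctor A 0).obj G) := by
  intro k
  induction k with
  | zero =>
    intro ι M _ b hb hge hle
    haveI := hasCoproducts (A := A) ι
    have h : ∀ i, ∃ Y, Nonempty (M i ≅ (DerivedCategory.singleFunctor A b).obj Y) := fun i => by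
      haveI := hle i
      haveI : (M i).IsGE b := by simpa using hge i
      exact DerivedCategory.exists_iso_singleFunctor_obj_of_isGE_of_isLE (M i) b
    choose Y e using h
    exact fin'_of_iso _ (fun i => (e i).some.symm) (fin'_single G hG Y b hb)
  | succ k ih =>
    intro ι M _ b hb hge hle
    haveI := hasCoproducts (A := A) ι
    obtain ⟨a, ha⟩ : ∃ a : ℤ, a + 1 = b - k := ⟨b - k - 1, by omega⟩
    have hge' : ∀ i, (M i).IsGE a := fun i => by
      have := hge i
      rwa [show b - ((k + 1 : ℕ) : ℤ) = a by push_cast; omega] at this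
    let T : ι → Triangle (DerivedCategory A) := fun i => ((ts).triangleLEGE a (b - k) ha).obj (M i)
    refine fin'_ext₂ T (fun i => (ts).triangleLEGE_distinguished a (b - k) ha (M i)) ?_ ?_
    · have h : ∀ i, ∃ Y, Nonempty ((T i).obj₁ ≅ (DerivedCategory.singleFunctor A a).obj Y) := fun i => by
        haveI : (M i).IsGE a := hge' i
        haveI : DerivedCategory.IsGE (T i).obj₁ a :=
          inferInstanceAs ((ts).IsGE (((ts).truncLE a).obj (M i)) a)
        haveI : DerivedCategory.IsLE (T i).obj₁ a :=
          inferInstanceAs ((ts).IsLE (((ts).truncLE a).obj (M i)) a)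
        exact DerivedCategory.exists_iso_singleFunctor_obj_of_isGE_of_isLE (T i).obj₁ a
      choose Y e using h
      exact fin'_of_iso _ (fun i => (e i).some.symm) (fin'_single G hG Y a (by omega))
    · exact ih (fun i => (T i).obj₃) b hb
        (fun i => inferInstanceAs ((ts).IsGE (((ts).truncGE (b - k)).obj (M i)) (b - k)))
        (fun i => by
          haveI := hle i
          exact inferInstanceAs ((ts).IsLE (((ts).truncGE (b - k)).obj (M i)) b))

include hG in
/-- Maps from `G` into uniformly bounded below sums are finitely supported. -/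
theorem fin'_zero {ι : Type v} (M : ι → DerivedCategory A) [HasCoproduct M] (a : ℤ)
    (hM : ∀ i, (M i).IsGE a) : Fin' M ((DerivedCategory.singleFunctor A 0).obj G) := by
  haveI := hasCoproducts (A := A) ι
  rcases le_or_gt 1 a with ha | ha
  · exact fin'_isGE_one G M fun i => by
      haveI := hM i
      exact (ts).isGE_of_ge (M i) 1 a ha
  · let T : ι → Triangle (DerivedCategory A) := fun i => ((ts).triangleLEGE 0 1 rfl).obj (M i)
    refine fin'_ext₂ T (fun i => (ts).triangleLEGE_distinguished 0 1 rfl (M i)) ?_ ?_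
    · refine fin'_bounded G hG (-a).toNat (fun i => (T i).obj₁) 0 le_rfl (fun i => ?_)
        (fun i => inferInstanceAs ((ts).IsLE (((ts).truncLE 0).obj (M i)) 0))
      rw [show (0 : ℤ) - ((-a).toNat : ℤ) = a by omega]
      haveI := hM i
      exact inferInstanceAs ((ts).IsGE (((ts).truncLE 0).obj (M i)) a)
    · exact fin'_isGE_one G (fun i => (T i).obj₃)
        fun i => inferInstanceAs ((ts).IsGE (((ts).truncGE 1).obj (M i)) 1)

include hG in
/-- The same for `G` placed in any degree. -/
theorem fin'_W {ι : Type v} (M : ι → DerivedCategory A) [HasCoproduct M] (a : ℤ)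
    (hM : ∀ i, (M i).IsGE a) (m : ℤ) : Fin' M (Groth.Agent.Lib.RlimTrunc.Single.W G m) := by
  classical
  haveI := hasCoproducts (A := A) ι
  intro x
  let S := shiftFunctor (DerivedCategory A) m
  let φ : S.obj (Groth.Agent.Lib.RlimTrunc.Single.W G m) ≅ (DerivedCategory.singleFunctor A 0).obj G :=
    ((DerivedCategory.singleFunctors A).shiftIso m 0 m (add_zero m)).app G
  haveI : PreservesColimit (Discrete.functor M) S := inferInstance
  let σ := sigmaComparison S M
  have hσ : ∀ s : Finset ι, cut (fun i => S.obj (M i)) s ≫ σ = σ ≫ S.map (cut M s) := fun s => by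
    refine Sigma.hom_ext _ _ fun i => ?_
    rw [← Category.assoc, ι_cut, ← Category.assoc, ι_comp_sigmaComparison, ← Functor.map_comp, ι_cut]
    split_ifs with hi
    · exact ι_comp_sigmaComparison S M i
    · simp
  obtain ⟨s, hs⟩ := fin'_zero G hG (fun i => S.obj (M i)) (a - m) (fun i => by
    haveI := hM i
    exact (ts).isGE_shift (M i) a m (a - m) (by omega)) (φ.inv ≫ S.map x ≫ inv σ)
  refine ⟨s, S.map_injective ((cancel_epi φ.inv).1 ?_)⟩
  have h' := congrArg (· ≫ σ) hs
  simp only [Category.assoc, IsIso.inv_hom_id, Category.comp_id, hσ, IsIso.inv_hom_id_assoc] at h'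
  rw [S.map_comp]
  exact h'

end Derived

end Groth.Agent.H22.CohDimFin
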