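import Groth.Agent.H22.IndColim.Coreflect
import Groth.Agent.Lib.Grothendieck.AdjointTransfer
import Groth.Agent.Lib.DerivedOX.Grothendieck
import Mathlib.CategoryTheory.Abelian.Subcategory

/-!
# Ind-coherent modules form a Grothendieck abelian category (helper22)
-/

set_option autoImplicit false
set_option maxHeartbeats 1000000
set_option linter.style.haveILetI false

universe u

open CategoryTheory CategoryTheory.Limits AlgebraicGeometry TopologicalSpace Opposite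
open Groth.Agent.H30 Groth.Agent.H30.RealLimSec Groth.Agent.Lib.EtMod

namespace Groth.Agent.H22.IndColim

variable {𝔛 : FSch.Sys.{u}} (h𝔛 : 𝔛.IsLocNoethFormal)

theorem exists_separating_ind :
    ∃ (κ : Type u) (g : κ → (ObjectProperty.ind.{u} fun 𝔊 : FSch.ModF 𝔛 h𝔛.1 =>
        FSch.IsCohF 𝔛 h𝔛.1 𝔊).FullSubcategory), (ObjectProperty.ofObj g).IsSeparating := by
  let P := ObjectProperty.ind.{u} fun 𝔊 : FSch.ModF 𝔛 h𝔛.1 => FSch.IsCohF 𝔛 h𝔛.1 𝔊
  haveI := Groth.Agent.Lib.DerivedOX.Grothendieck.isGrothendieckAbelian_sheafOfModules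
    (ModSite.ringSh (𝔛.Osh h𝔛.1))
  obtain ⟨U₀, hU₀⟩ := exists_cover h𝔛
  let κ : Type u := Shrink.{u} {S : Subobject U₀ // P (cokernel S.arrow)}
  let g : κ → P.FullSubcategory := fun k =>
    ⟨cokernel ((equivShrink _).symm k).1.arrow, ((equivShrink _).symm k).2⟩
  have hsep : (ObjectProperty.ofObj g).IsSeparating := by
    intro F G a b hab
    obtain ⟨J, _, _, pres, hp⟩ := F.property
    refine P.hom_ext (pres.isColimit.hom_ext fun j => ?_)
    obtain ⟨φ, _⟩ := hU₀ _ (hp j)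
    let K : Subobject U₀ := Subobject.mk (kernel.ι φ)
    let e : cokernel K.arrow ≅ pres.diag.obj j :=
      cokernelIsoOfEq (Subobject.underlyingIso_hom_comp_eq_mk (kernel.ι φ)).symm ≪≫
        cokernelEpiComp _ _ ≪≫ (cokernelIsCokernel (kernel.ι φ)).coconePointUniqueUpToIso
          (Abelian.epiIsCokernelOfKernel _ (limit.isLimit (parallelPair φ 0)))
    have hK : P (cokernel K.arrow) :=
      ObjectProperty.prop_of_iso _ e.symm (ObjectProperty.le_ind _ _ (hp j))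
    let k : κ := equivShrink _ ⟨K, hK⟩
    have hk : (g k).obj = cokernel K.arrow := by
      exact congrArg (fun t : {S : Subobject U₀ // P (cokernel S.arrow)} => cokernel t.1.arrow) (Equiv.symm_apply_apply _ _)
    have h1 := congrArg (fun t => P.ι.map t)
      (hab (g k) ⟨k⟩ (ObjectProperty.homMk (eqToHom hk ≫ e.hom ≫ pres.ι.app j)))
    simp only [Functor.map_comp] at h1
    change (eqToHom hk ≫ e.hom ≫ pres.ι.app j) ≫ a.hom =
      (eqToHom hk ≫ e.hom ≫ pres.ι.app j) ≫ b.hom at h1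
    simp only [Category.assoc, cancel_epi] at h1
    exact h1
  exact ⟨κ, g, hsep⟩

theorem isGrothendieckAbelian_ind
    [(ObjectProperty.ind.{u} fun 𝔊 : FSch.ModF 𝔛 h𝔛.1 => FSch.IsCohF 𝔛 h𝔛.1 𝔊).ContainsZero]
    [(ObjectProperty.ind.{u} fun 𝔊 : FSch.ModF 𝔛 h𝔛.1 => FSch.IsCohF 𝔛 h𝔛.1 𝔊).IsClosedUnderKernels]
    [(ObjectProperty.ind.{u} fun 𝔊 : FSch.ModF 𝔛 h𝔛.1 => FSch.IsCohF 𝔛 h𝔛.1 𝔊).IsClosedUnderCokernels]
    [(ObjectProperty.ind.{u} fun 𝔊 : FSch.ModF 𝔛 h𝔛.1 => FSch.IsCohF 𝔛 h𝔛.1 𝔊).IsClosedUnderFiniteProducts]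
    [PreservesFiniteLimits (ObjectProperty.ind.{u} fun 𝔊 : FSch.ModF 𝔛 h𝔛.1 => FSch.IsCohF 𝔛 h𝔛.1 𝔊).ι]
    [PreservesFiniteColimits (ObjectProperty.ind.{u} fun 𝔊 : FSch.ModF 𝔛 h𝔛.1 => FSch.IsCohF 𝔛 h𝔛.1 𝔊).ι] :
    IsGrothendieckAbelian.{u} (ObjectProperty.ind.{u} fun 𝔊 : FSch.ModF 𝔛 h𝔛.1 =>
      FSch.IsCohF 𝔛 h𝔛.1 𝔊).FullSubcategory := by
  let P := ObjectProperty.ind.{u} fun 𝔊 : FSch.ModF 𝔛 h𝔛.1 => FSch.IsCohF 𝔛 h𝔛.1 𝔊
  haveI : ∀ (J : Type u) [SmallCategory J], P.IsClosedUnderColimitsOfShape J :=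
    fun J _ => isClosedUnderColimitsOfShape h𝔛 J
  haveI : HasColimitsOfSize.{u, u} P.FullSubcategory := ⟨fun _ _ => inferInstance⟩
  haveI := Groth.Agent.Lib.DerivedOX.Grothendieck.isGrothendieckAbelian_sheafOfModules
    (ModSite.ringSh (𝔛.Osh h𝔛.1))
  haveI := isLeftAdjoint_ι h𝔛
  let adj := Adjunction.ofIsLeftAdjoint P.ι
  haveI := Groth.Agent.Lib.Grothendieck.AdjointTransfer.ab5 P.ι P.ι.rightAdjoint adj
  obtain ⟨κ, g, hg⟩ := exists_separating_ind h𝔛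
  exact { hasSeparator := ⟨_, hg.isSeparator_coproduct⟩ }

end Groth.Agent.H22.IndColim
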