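import Groth.Agent.H30.FSch.AffinePushD

/-!
# The derived direct image under a bound on the cohomological dimension over a basis (helper22)
-/

set_option autoImplicit false
set_option maxHeartbeats 1000000
set_option linter.style.haveILetI false
set_option linter.unusedSectionVars false

universe w w' u v v₁ u₀ u₁

open CategoryTheory CategoryTheory.Limits Opposite CategoryTheory.Abelian TopologicalSpace DerivedCategory
open Groth.Agent.Lib Groth.Agent.Lib.RlimTrunc
open Groth.Agent.Lib.RlimTrunc.Main (CofinalGood)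
open Groth.Agent.Lib.ZarCoh.Basic Groth.Agent.H30

namespace Groth.Agent.H22.CohDimPush

section Gen

variable {A : Type u₀} [Category.{v} A] [Abelian A] [HasDerivedCategory.{w} A]
  {B : Type u₁} [Category.{v₁} B] [Abelian B] [HasDerivedCategory.{w'} B]
  [(DerivedCategory.Qh (C := B)).IsLeftAdjoint] [HasInjectiveResolutions B]
  (G : B ⥤ A) [G.Additive]

/-- If the derived functors of degree above `n` vanish on the cohomology, a bound `e` becomes `e + n`. -/
theorem isZero_homology_of_bounded (n : ℕ) (e : ℤ) : ∀ (k : ℕ) (a : ℤ), e < a + (k : ℤ) →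
    ∀ Y : DerivedCategory B, Y.IsGE a → (∀ j, e < j → IsZero ((homologyFunctor B j).obj Y)) →
    (∀ j, a ≤ j → ∀ p : ℕ, n ≤ p → IsZero ((G.rightDerived (p + 1)).obj ((homologyFunctor B j).obj Y))) →
    ∀ i, e + n < i → IsZero ((homologyFunctor A i).obj ((RightPres.R G).obj Y)) := by
  intro k
  induction k with
  | zero =>
    intro a ha Y hY hh _ i _
    haveI := hY
    haveI : Y.IsLE (a - 1) := (isLE_iff _ _).2 fun j hj => hh j (by push_cast at ha; omega)
    haveI : TStructure.t.IsGE Y a := hY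
    haveI : TStructure.t.IsLE Y (a - 1) := ‹Y.IsLE (a - 1)›
    exact Functor.map_isZero _ ((RightPres.R G).map_isZero (TStructure.t.isZero Y (a - 1) a (by omega)))
  | succ k ih =>
    intro a ha Y hY hh hp i hi
    by_cases hea : e < a
    · haveI : Y.IsLE (a - 1) := (isLE_iff _ _).2 fun j hj => hh j (by omega)
      haveI : TStructure.t.IsGE Y a := hY
      haveI : TStructure.t.IsLE Y (a - 1) := ‹Y.IsLE (a - 1)›
      exact Functor.map_isZero _ ((RightPres.R G).map_isZero (TStructure.t.isZero Y (a - 1) a (by omega)))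
    · haveI : TStructure.t.IsGE Y a := hY
      have hT := TStructure.t.triangleLTGE_distinguished (a + 1) Y
      let Z₁ := (TStructure.t.truncLT (a + 1)).obj Y
      let Z₃ := (TStructure.t.truncGE (a + 1)).obj Y
      have h₁ : IsZero ((homologyFunctor A i).obj ((RightPres.R G).obj Z₁)) := by
        haveI : TStructure.t.IsGE Z₁ a := inferInstance
        haveI : Z₁.IsGE a := ‹TStructure.t.IsGE Z₁ a›
        haveI : Z₁.IsLE a := by
          have := (inferInstance : TStructure.t.IsLE Z₁ (a + 1 - 1))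
          simpa using this
        refine RightSingle.isZero_homology_R G Z₁ a i fun p hp' => ?_
        obtain ⟨p, rfl⟩ : ∃ q, p = q + 1 := ⟨p - 1, by omega⟩
        refine (hp a le_rfl p (by omega)).of_iso ((G.rightDerived (p + 1)).mapIso ?_)
        exact @asIso _ _ _ _ _ (@DerCat.TStruct.isIso_homologyMap_mor₁ _ _ _ _ _ hT (a + 1)
          (inferInstance : TStructure.t.IsGE Z₃ (a + 1)) a (by omega))
      have h₃ : IsZero ((homologyFunctor A i).obj ((RightPres.R G).obj Z₃)) := by
        have hiso : ∀ j, a + 1 ≤ j →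
            IsIso ((homologyFunctor B j).map ((TStructure.t.truncGEπ (a + 1)).app Y)) := fun j hj =>
          @DerCat.TStruct.isIso_homologyMap_mor₂ _ _ _ _ _ hT ((a + 1) - 1)
            (inferInstance : TStructure.t.IsLE Z₁ ((a + 1) - 1)) j (by omega)
        refine ih (a + 1) (by push_cast at ha ⊢; omega) Z₃ (inferInstance : TStructure.t.IsGE Z₃ (a + 1))
          (fun j hj => ?_) (fun j hj p hnp => ?_) i hi
        · exact (hh j hj).of_iso (@asIso _ _ _ _ _ (hiso j (by omega))).symm
        · exact (hp j (by omega) p hnp).of_iso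
            ((G.rightDerived _).mapIso (@asIso _ _ _ _ _ (hiso j hj)).symm)
      exact (HomologySequence.exact₂ _ ((RightPres.R G).map_distinguished _ hT) i).isZero_of_both_zeros
        (h₁.eq_of_src _ _) (h₃.eq_of_tgt _ _)

end Gen

attribute [local instance] DerivedOX.Exists.isLeftAdjoint_Qh HasDerivedCategory.standard

variable {T S : TopCat.{u}} {O : Sheaf (Opens.grothendieckTopology T) CommRingCat.{u}}
  {O' : Sheaf (Opens.grothendieckTopology S) CommRingCat.{u}}

/-- Vanishing above `n` on a family of opens. -/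
def AcyAbove (W : Set (Opens T)) (n : ℕ) (M : _root_.ModSite.Mod O) : Prop :=
  ∀ V ∈ W, ∀ q : ℕ, n ≤ q → Subsingleton (Ext.{u} (Zs.obj V) (_root_.ModSite.toAb M) (q + 1))

theorem acyAbove_X₃ (W : Set (Opens T)) (n : ℕ) (E : ShortComplex (_root_.ModSite.Mod O)) (hE : E.ShortExact)
    (h₁ : AcyAbove W n E.X₁) (h₂ : AcycPush.Acy W E.X₂) : AcyAbove W (n - 1) E.X₃ := fun V hV q hq => by
  have hE' := hE.map_of_exact (SheafOfModules.toSheaf (_root_.ModSite.ringSh O))
  refine subsingleton_of_forall_eq 0 fun x => ?_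
  haveI := h₁ V hV (q + 1) (by omega)
  obtain ⟨y, hy⟩ := Ext.covariant_sequence_exact₃ (Zs.obj V) hE' x rfl
    (Subsingleton.elim (α := Ext.{u} (Zs.obj V) (_root_.ModSite.toAb E.X₁) (q + 1 + 1)) _ 0)
  haveI := h₂ V hV q
  rw [← hy, show y = 0 from Subsingleton.elim (α := Ext.{u} (Zs.obj V) (_root_.ModSite.toAb E.X₂) (q + 1)) y 0]
  exact Ext.zero_comp (X := Zs.obj V) _ _ _ _

variable (f : _root_.ModSite.RMor O O') [HasInjectiveResolutions (_root_.ModSite.Mod O)]
  (B' : Set (Opens S)) (hB' : Opens.IsBasis B')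

include hB' in
/-- The higher direct images of degree above `n` vanish. -/
theorem isZero_rightDerived (n : ℕ) (M : _root_.ModSite.Mod O) (hM : AcyAbove (f.fn.obj '' B') n M)
    (k : ℕ) (hk : n ≤ k) : IsZero ((f.push.rightDerived (k + 1)).obj M) := by
  haveI : f.push.IsRightAdjoint := f.adj.isRightAdjoint
  let P := injectiveResolution M
  have hcyc : ∀ j, AcyAbove (f.fn.obj '' B') (n - j) (EtJ.RightAcyclic.cyc P j) := fun j => by
    induction j with
    | zero =>
      intro V hV q hq
      haveI := hM V hV q (by simpa using hq)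
      have e := (SheafOfModules.toSheaf _).mapIso (EtJ.RightAcyclic.isoCyc₀ P)
      refine subsingleton_of_forall_eq 0 fun x => ?_
      have hz : x.comp (Ext.mk₀ e.inv) (add_zero (q + 1)) = 0 :=
        Subsingleton.elim (α := Ext.{u} (Zs.obj V) (_root_.ModSite.toAb M) (q + 1)) _ 0
      rw [← Ext.comp_mk₀_id x, ← e.inv_hom_id, ← Ext.mk₀_comp_mk₀, ← Ext.comp_assoc_of_second_deg_zero, hz,
        Ext.zero_comp]
    | succ j ih =>
      have h := acyAbove_X₃ _ _ _ (EtJ.RightAcyclic.seq_shortExact P j) ih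
        (AcycPush.acy_injective _ (P.cocomplex.X j))
      intro V hV q hq
      exact h V hV q (by omega)
  have hk' : AcycPush.Acy (f.fn.obj '' B') (EtJ.RightAcyclic.cyc P k) := fun V hV q =>
    hcyc k V hV q (by omega)
  refine IsZero.of_iso ?_ (P.isoRightDerivedObj f.push (k + 1))
  refine (HomologicalComplex.exactAt_iff_isZero_homology _ _).1
    ((HomologicalComplex.exactAt_iff' _ k (k + 1) (k + 2) (by simp) (by simp)).2 ?_)
  let Γ := f.push
  let E₁ := ShortComplex.mk (Γ.map (EtJ.RightAcyclic.seq P (k + 1)).f)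
    (Γ.map (P.cocomplex.d (k + 1) (k + 2)))
    (by rw [← Γ.map_comp]; exact (congrArg Γ.map (kernel.condition _)).trans (Γ.map_zero _ _))
  have hE₁ : E₁.Exact := ShortComplex.exact_of_f_is_kernel _
    (KernelFork.mapIsLimit _ (kernelIsKernel (P.cocomplex.d (k + 1) (k + 2))) Γ)
  let φ : ((Γ.mapHomologicalComplex _).obj P.cocomplex).sc' k (k + 1) (k + 2) ⟶ E₁ :=
    { τ₁ := Γ.map (EtJ.RightAcyclic.seq P k).g
      τ₂ := 𝟙 _
      τ₃ := 𝟙 _
      comm₁₂ := ((Γ.map_comp _ _).symm.trans (congrArg Γ.map (kernel.lift_ι _ _ _))).trans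
        (Category.comp_id _).symm
      comm₂₃ := (Category.id_comp _).trans (Category.comp_id _).symm }
  haveI : Epi φ.τ₁ := AcycPush.epi_push f B' hB' _ (EtJ.RightAcyclic.seq_shortExact P k) hk'
  haveI : IsIso φ.τ₂ := inferInstanceAs (IsIso (𝟙 _))
  haveI : Mono φ.τ₃ := inferInstanceAs (Mono (𝟙 _))
  exact (ShortComplex.exact_iff_of_epi_of_isIso_of_mono φ).2 hE₁

variable [SiteCmp.HasRpushD f] (B : Set (Opens T)) (hB : Opens.IsBasis B)
  (P : ObjectProperty (_root_.ModSite.Mod O)) (hP : ∀ M, P M → AcycPush.Acy B M)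
  (n : ℕ) (hn : ∀ M, P M → AcyAbove (f.fn.obj '' B') n M)

include hB hB' hP hn in
/-- `H^i(Rf_* X)` only depends on `τ_{≥ -m} X` for `i ≥ n - m`. -/
theorem isIso_toTruncTower (X : DerivedCategory (_root_.ModSite.Mod O))
    (hX : ∀ j, P (SiteCmp.HMod X j)) (m : ℕ) (i : ℤ) (hi : (n : ℤ) - m ≤ i) :
    IsIso ((homologyFunctor (_root_.ModSite.Mod O') i).map
      ((SiteCmp.RpushD f).map (CohCx.toTruncTower X m))) :=
  ModPush.isIso_homologyMap_rpushD f P
    (AffinePushD.cofinalGood B hB _ 0 fun V hV M hM k hk => by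
      obtain ⟨q, rfl⟩ : ∃ q, k = q + 1 := ⟨k - 1, by omega⟩
      exact hP M hM V hV q)
    (n : ℤ)
    (fun M hM p hp => by
      obtain ⟨q, rfl⟩ : ∃ q, p = q + 1 := ⟨p - 1, by omega⟩
      exact isZero_rightDerived f B' hB' n M (hn M hM) q (by omega))
    X hX
    (AffinePushD.cofinalGood B' hB' _ n fun V hV M hM k hk => by
      obtain ⟨q, rfl⟩ : ∃ q, k = q + 1 := ⟨k - 1, by omega⟩
      exact hn M hM _ ⟨V, hV, rfl⟩ q (by omega))
    m i hi

include hB hB' hP hn in
/-- The derived direct image raises the amplitude by at most `n`. -/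
theorem isZero_HMod_RpushD (X : DerivedCategory (_root_.ModSite.Mod O))
    (hX : ∀ j, P (SiteCmp.HMod X j)) (e : ℤ) (he : ∀ j, e < j → IsZero (SiteCmp.HMod X j))
    (i : ℤ) (hi : e + n < i) : IsZero (SiteCmp.HMod ((SiteCmp.RpushD f).obj X) i) := by
  have hii := isIso_toTruncTower f B' hB' B hB P hP n hn X hX ((n : ℤ) - i).toNat i (by omega)
  let a : ℤ := -((((n : ℤ) - i).toNat : ℕ) : ℤ)
  let Y := (TStructure.t.truncGE a).obj X
  have hiso : ∀ j, a ≤ j →
      IsIso ((homologyFunctor (_root_.ModSite.Mod O) j).map ((TStructure.t.truncGEπ a).app X)) := fun j hj =>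
    @DerCat.TStruct.isIso_homologyMap_mor₂ _ _ _ _ _ (TStructure.t.triangleLTGE_distinguished a X) (a - 1)
      (inferInstance : TStructure.t.IsLE ((TStructure.t.truncLT a).obj X) (a - 1)) j (by omega)
  have hz : IsZero ((homologyFunctor _ i).obj ((RightPres.R f.push).obj Y)) := by
    refine isZero_homology_of_bounded f.push n e (e - a + 1).toNat a (by omega) Y
      (inferInstance : TStructure.t.IsGE Y a) (fun j hj => ?_) (fun j hja p hp => ?_) i hi
    · by_cases hja : a ≤ j
      · exact (he j hj).of_iso (@asIso _ _ _ _ _ (hiso j hja)).symm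
      · exact @isZero_of_isGE _ _ _ _ _ a j (by omega) (inferInstance : TStructure.t.IsGE Y a)
    · exact (isZero_rightDerived f B' hB' n _ (hn _ (hX j)) p hp).of_iso
        ((f.push.rightDerived (p + 1)).mapIso (@asIso _ _ _ _ _ (hiso j hja)).symm)
  refine IsZero.of_iso ?_ (@asIso _ _ _ _ _ hii)
  exact hz.of_iso ((homologyFunctor _ i).mapIso
    ((DerivedOX.RightDerived.totalRightDerivedIso (SiteCmp.pushKh f)).app _).symm)

end Groth.Agent.H22.CohDimPush
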