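import Groth.Agent.H30.FSch.TorsRpush
import Groth.Agent.Lib.FPHom.QcCover
import Groth.Agent.S2214
import Groth.Agent.H22.CohDim.CoreflectColim

/-!
# The coreflection onto quasi-coherent torsion modules preserves filtered colimits (helper22)
-/

set_option autoImplicit false
set_option maxHeartbeats 1000000
set_option linter.style.haveILetI false

universe u

open CategoryTheory CategoryTheory.Limits AlgebraicGeometry TopologicalSpace Opposite
open Groth.Agent.H30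

namespace Groth.Agent.H22.QCTColim

variable {𝔛 : FSch.Sys.{u}} (h𝔛 : 𝔛.IsLocNoethFormal)

/-- Coherent modules are finitely presentable. -/
theorem preservesColimit_hom [CompactSpace (𝔛.X 0)] (T : FSch.ModF 𝔛 h𝔛.1)
    (hT : FSch.IsCohF 𝔛 h𝔛.1 T) {Λ : Type u} [SmallCategory Λ] [IsFiltered Λ] (D : Λ ⥤ FSch.ModF 𝔛 h𝔛.1) :
    PreservesColimit D (coyoneda.obj (op T)) := by
  haveI := h𝔛.2.2 0
  haveI : AlgebraicGeometry.IsNoetherian (𝔛.X 0) := {}
  haveI : SheafOfModules.IsFinitePresentation (R := ModSite.ringSh (𝔛.Osh h𝔛.1)) T := hT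
  exact Lib.FPHom.Global.preservesColimit_coyoneda (O := 𝔛.Osh h𝔛.1)
    (Lib.FPHom.QcCover.exists_qc_cover (Groth.Agent.S2214.exists_fine_cover (𝔛.X 0))) T D

/-- The coreflection preserves filtered colimits. -/
theorem preservesColimit [CompactSpace (𝔛.X 0)]
    (Q : FSch.ModF 𝔛 h𝔛.1 ⥤ (FTors.IsQCT 𝔛 h𝔛.1).FullSubcategory) (adj : (FTors.IsQCT 𝔛 h𝔛.1).ι ⊣ Q)
    (J : Type u) [SmallCategory J] [IsFiltered J] (K : J ⥤ FSch.ModF 𝔛 h𝔛.1) : PreservesColimit K Q := by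
  haveI := TorsClosure.isClosedUnderColimitsOfShape h𝔛 J
  exact CoreflectColim.preservesColimit (FTors.IsQCT 𝔛 h𝔛.1) Q adj J
    (fun T : FSch.ModF 𝔛 h𝔛.1 => FSch.IsCohF 𝔛 h𝔛.1 T ∧ FTors.IsTorsF 𝔛 h𝔛.1 T)
    (fun T hT => TorsClosure.isQCT_coh h𝔛 hT.1 hT.2) (fun M hM => TorsRpush.ind_coh_tors h𝔛 hM)
    (fun T hT D => preservesColimit_hom h𝔛 T hT.1 D) K

end Groth.Agent.H22.QCTColim
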