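import Groth.Agent.H30.FSch.TorsClosure
import Groth.Agent.Lib.Grothendieck.AdjointTransfer
import Groth.Agent.Lib.DerivedOX.Grothendieck
import Mathlib.CategoryTheory.Abelian.Subcategory

/-!
# Quasi-coherent torsion modules form a Grothendieck abelian category (helper22)
-/

set_option autoImplicit false
set_option maxHeartbeats 1000000
set_option linter.style.haveILetI false

universe u

open CategoryTheory CategoryTheory.Limits AlgebraicGeometry TopologicalSpace Opposite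
open scoped Pointwise
open Groth.Agent.H30 Groth.Agent.H30.RealLimSec Groth.Agent.H22.IndColim Groth.Agent.Lib
open Groth.Agent.H30.TorsClosure

namespace Groth.Agent.H22.QCTGroth

variable {𝔛 : FSch.Sys.{u}} (h𝔛 : 𝔛.IsLocNoethFormal)

theorem exists_separating :
    ∃ (κ : Type u) (g : κ → (FTors.IsQCT 𝔛 h𝔛.1).FullSubcategory), (ObjectProperty.ofObj g).IsSeparating := by
  let P := FTors.IsQCT 𝔛 h𝔛.1
  haveI : P.IsClosedUnderIsomorphisms := ⟨fun {X Y} e hX => by
    refine ⟨isTors_of_epi e.hom hX.1, ?_⟩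
    exact (SheafOfModules.isQuasicoherent (ModSite.ringSh (𝔛.Osh h𝔛.1))).prop_of_iso e hX.2⟩
  haveI := Groth.Agent.Lib.DerivedOX.Grothendieck.isGrothendieckAbelian_sheafOfModules
    (ModSite.ringSh (𝔛.Osh h𝔛.1))
  obtain ⟨U₀, hU₀⟩ := Groth.Agent.H22.IndColim.exists_cover h𝔛
  let κ : Type u := Shrink.{u} {S : Subobject U₀ // P (cokernel S.arrow)}
  let g : κ → P.FullSubcategory := fun k =>
    ⟨cokernel ((equivShrink _).symm k).1.arrow, ((equivShrink _).symm k).2⟩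
  have hsep : (ObjectProperty.ofObj g).IsSeparating := by
    intro F G a b hab
    refine P.hom_ext (LevelAdj.hom_extF fun V x => ?_)
    haveI : SheafOfModules.IsQuasicoherent.{u} F.obj := F.property.2
    obtain ⟨T, χ, hχ, hT, ht⟩ := TorsLevel.exists_coh_through h𝔛 F.obj V.2 (m := 1)
      fun _ => ⟨x, F.property.1 V.1 x⟩
    obtain ⟨t, ht⟩ := ht 0
    have hPT : P T := isQCT_coh h𝔛 hT (isTors_of_mono χ (isTors_gammaT F.obj))
    obtain ⟨φ, _⟩ := hU₀ _ hT
    let K : Subobject U₀ := Subobject.mk (kernel.ι φ)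
    let e : cokernel K.arrow ≅ T :=
      cokernelIsoOfEq (Subobject.underlyingIso_hom_comp_eq_mk (kernel.ι φ)).symm ≪≫
        cokernelEpiComp _ _ ≪≫ (cokernelIsCokernel (kernel.ι φ)).coconePointUniqueUpToIso
          (Abelian.epiIsCokernelOfKernel _ (limit.isLimit (parallelPair φ 0)))
    have hK : P (cokernel K.arrow) := ObjectProperty.prop_of_iso _ e.symm hPT
    let k : κ := equivShrink _ ⟨K, hK⟩
    have hk : (g k).obj = cokernel K.arrow := by
      exact congrArg (fun t : {S : Subobject U₀ // P (cokernel S.arrow)} => cokernel t.1.arrow)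
        (Equiv.symm_apply_apply _ _)
    let ψ : (g k).obj ⟶ F.obj := eqToHom hk ≫ e.hom ≫ χ ≫ (FTors.gammaTι 𝔛 h𝔛.1).app F.obj
    have h1 := congrArg (fun t => P.ι.map t) (hab (g k) ⟨k⟩ (ObjectProperty.homMk ψ))
    simp only [Functor.map_comp] at h1
    change ψ ≫ a.hom = ψ ≫ b.hom at h1
    simp only [ψ, Category.assoc, cancel_epi] at h1
    have hx : secMap h𝔛.1 ((FTors.gammaTι 𝔛 h𝔛.1).app F.obj) V.1 (secMap h𝔛.1 χ V.1 t) = x :=
      (congrArg (secMap h𝔛.1 ((FTors.gammaTι 𝔛 h𝔛.1).app F.obj) V.1) ht).trans rfl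
    rw [← hx]
    exact congrArg (fun ψ => secMap h𝔛.1 ψ V.1 t) h1
  exact ⟨κ, g, hsep⟩

theorem isGrothendieckAbelian
    [(FTors.IsQCT 𝔛 h𝔛.1).ContainsZero] [(FTors.IsQCT 𝔛 h𝔛.1).IsClosedUnderKernels]
    [(FTors.IsQCT 𝔛 h𝔛.1).IsClosedUnderCokernels] [(FTors.IsQCT 𝔛 h𝔛.1).IsClosedUnderFiniteProducts]
    [PreservesFiniteLimits (FTors.IsQCT 𝔛 h𝔛.1).ι] [PreservesFiniteColimits (FTors.IsQCT 𝔛 h𝔛.1).ι] :
    IsGrothendieckAbelian.{u} (FTors.IsQCT 𝔛 h𝔛.1).FullSubcategory := by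
  let P := FTors.IsQCT 𝔛 h𝔛.1
  haveI : ∀ (J : Type u) [SmallCategory J], P.IsClosedUnderColimitsOfShape J :=
    fun J _ => TorsClosure.isClosedUnderColimitsOfShape h𝔛 J
  haveI : HasColimitsOfSize.{u, u} P.FullSubcategory := ⟨fun _ _ => inferInstance⟩
  haveI := Groth.Agent.Lib.DerivedOX.Grothendieck.isGrothendieckAbelian_sheafOfModules
    (ModSite.ringSh (𝔛.Osh h𝔛.1))
  haveI := TorsClosure.isLeftAdjoint_ι h𝔛
  let adj := Adjunction.ofIsLeftAdjoint P.ι
  haveI := Groth.Agent.Lib.Grothendieck.AdjointTransfer.ab5 P.ι P.ι.rightAdjoint adj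
  obtain ⟨κ, g, hg⟩ := exists_separating h𝔛
  exact { hasSeparator := ⟨_, hg.isSeparator_coproduct⟩ }

end Groth.Agent.H22.QCTGroth
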