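import Groth.Agent.H30.FSch.AffinePushD
import Groth.Agent.Lib.ModSS29.OpenFree

/-!
# Hypercohomology of complexes under a bound on the cohomological dimension (helper22)
-/

set_option autoImplicit false
set_option maxHeartbeats 1000000
set_option linter.style.haveILetI false

universe u

open CategoryTheory CategoryTheory.Limits Opposite CategoryTheory.Abelian TopologicalSpace DerivedCategory
open Groth.Agent.Lib Groth.Agent.Lib.RlimTrunc
open Groth.Agent.Lib.RlimTrunc.Single Groth.Agent.Lib.RlimTrunc.Devissage Groth.Agent.Lib.RlimTrunc.Tower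
open Groth.Agent.Lib.ZarCoh.Basic Groth.Agent.H30

attribute [local instance] HasDerivedCategory.standard

namespace Groth.Agent.H22.CohDimSections

variable {T : TopCat.{u}} (O : Sheaf (Opens.grothendieckTopology T) CommRingCat.{u})

/-- The free module on the whole space is the unit. -/
noncomputable def freeTopIso : (ModSheaf.free O).obj (⊤ : Opens T) ≅ _root_.ModSite.unit O :=
  (Lib.FreeMod.Basic.FrP O).mapIso ((IsTerminal.isTerminalObj yoneda (⊤ : Opens T) isTerminalTop).uniqueUpToIso
      (ModSS29.OpenFree.isTerminalT (Opens.grothendieckTopology T))) ≪≫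
    asIso (ModSS29.OpenFree.ε O (ModSS29.OpenFree.T (Opens.grothendieckTopology T)))

theorem subsingleton_hom (P : ObjectProperty (_root_.ModSite.Mod O))
    (B : Set (Opens T)) (hB : Opens.IsBasis B) (hP : ∀ M, P M → AcycPush.Acy B M) (d : ℕ)
    (hd : ∀ M, P M → ∀ k, d < k → Subsingleton (Ext.{u} (Zs.obj (⊤ : Opens T)) (_root_.ModSite.toAb M) k))
    (X : DerivedCategory (_root_.ModSite.Mod O)) (hX : ∀ j, P (SiteCmp.HMod X j)) (e : ℤ)
    (he : ∀ j, e < j → IsZero (SiteCmp.HMod X j)) (i : ℤ) (hi : e + d < i) :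
    Subsingleton (SiteCmp.inD O (_root_.ModSite.unit O) ⟶
      (shiftFunctor (DerivedCategory (_root_.ModSite.Mod O)) i).obj X) := by
  haveI : HasLimitsOfShape (Discrete ℕ) (DerivedCategory (_root_.ModSite.Mod O)) :=
    DerCat.HProd.hasLimitsOfShape_derivedCategory
  let g := (ModSheaf.free O).obj (⊤ : Opens T)
  have hg : ∀ M, P M → ∀ k, d < k → ExtVanish g M k := fun M hM k hk =>
    ModSheaf.extVanish_of_subsingleton_hu O ⊤ M k (hd M hM k hk)
  have hL : CohCx.IsRlimVia (CohCx.truncTower X) (CohCx.truncTowerMap X) X (CohCx.toTruncTower X) :=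
    Trunc.isRlimVia_truncTower X (ModSheaf.isDetecting O)
      (AffinePushD.cofinalGood B hB _ (fun m : ℤ => (-m).toNat) fun V hV m n hn =>
        ModSheaf.extVanish_of_subsingleton_hu O V _ _ (by
          have hn' : (-m).toNat ≤ n := hn
          obtain ⟨q, hq⟩ : ∃ q, (m + n + 1).toNat = q + 1 := ⟨(m + n).toNat, by omega⟩
          rw [hq]
          exact hP _ (hX _) V hV q))
  let N : ℕ := ((d : ℤ) - i).toNat
  have hN : (d : ℤ) - i ≤ (N : ℤ) := Int.self_le_toNat _
  have hinj := (Trunc.bijective_trunc X hL (g := g) i N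
    (fun k n hk _ hn => hg _ (hX _) _ (by omega)) N le_rfl).1
  haveI : (CohCx.truncTower X N).IsGE (-(N : ℤ)) :=
    (inferInstance : TStructure.t.IsGE ((TStructure.t.truncGE (-(N : ℤ))).obj X) (-(N : ℤ)))
  have h0 : HomZero (W g i) (CohCx.truncTower X N) := by
    refine homZero_of_forall (i + 1 + N).toNat (-(N : ℤ)) _ (by omega) fun q hq hqi => ?_
    have hiso := Trunc.isIso_homologyMap_toTruncTower X N q hq
    refine ExtVanish.of_iso ?_ (@asIso _ _ _ _ _ hiso)
    by_cases hqe : e < q
    · exact extVanish_of_isZero g (he q hqe) _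
    · exact hg _ (hX q) _ (by omega)
  have hW : HomZero (W g i) X := fun f => hinj ((h0 _).trans zero_comp.symm)
  let φ : (shiftFunctor (DerivedCategory (_root_.ModSite.Mod O)) i).obj (W g i) ≅
      SiteCmp.inD O (_root_.ModSite.unit O) :=
    (((DerivedCategory.singleFunctors (_root_.ModSite.Mod O)).shiftIso i 0 i (add_zero i)).app g) ≪≫
      (DerivedCategory.singleFunctor (_root_.ModSite.Mod O) 0).mapIso (freeTopIso O)
  refine subsingleton_of_forall_eq 0 fun f => ?_
  obtain ⟨f', hf'⟩ := (shiftFunctor (DerivedCategory (_root_.ModSite.Mod O)) i).map_surjective (φ.hom ≫ f)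
  rw [← cancel_epi φ.hom, comp_zero]
  refine hf'.symm.trans ?_
  rw [hW f', Functor.map_zero]

end Groth.Agent.H22.CohDimSections
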