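import Groth.Agent.H22.CohDim.SmallModel
import Groth.Agent.Lib.SpecSeq.RightHom
import Groth.Agent.Lib.RlimTrunc.RightPres

/-!
# Brown representability for a derived functor after an exact functor (helper22)
-/

set_option autoImplicit false
set_option maxHeartbeats 1000000
set_option linter.style.haveILetI false
set_option linter.unusedSectionVars false

universe w w₁ w₂ v u u₁ u₂

open CategoryTheory CategoryTheory.Limits Groth.Agent.Lib Groth.Agent.Lib.RlimTrunc

namespace Groth.Agent.H22.CohDimSmall

variable {A : Type u} [Category.{v} A] [Abelian A] [HasDerivedCategory.{w} A] [IsGrothendieckAbelian.{v} A]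
  {B : Type u₁} [Category.{v} B] [Abelian B] [HasDerivedCategory.{w₁} B]
  [(DerivedCategory.Qh (C := B)).IsLeftAdjoint]
  {C : Type u₂} [Category.{v} C] [Abelian C] [IsGrothendieckAbelian.{v} C] [HasDerivedCategory.{w₂} C]

/-- An exact functor followed by a derived functor is a left adjoint if it preserves small sums. -/
theorem isLeftAdjoint_comp (F : A ⥤ B) [F.Additive] [PreservesFiniteLimits F] [PreservesFiniteColimits F]
    (G : B ⥤ C) [G.Additive]
    (h : ∀ (κ : Type v) (K : Discrete κ ⥤ DerivedCategory A),
      PreservesColimit K (F.mapDerivedCategory ⋙ RightPres.R G)) :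
    (F.mapDerivedCategory ⋙ RightPres.R G).IsLeftAdjoint := by
  haveI : ∀ κ : Type v, PreservesColimitsOfShape (Discrete κ) (F.mapDerivedCategory ⋙ RightPres.R G) :=
    fun κ => ⟨fun {K} => h κ K⟩
  exact isLeftAdjoint (A := A) (B := C) (F.mapDerivedCategory ⋙ RightPres.R G)

end Groth.Agent.H22.CohDimSmall
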