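import Groth.Agent.Lib.DerCat.BrownGroth
import Groth.Agent.Lib.DerivedOX.Exists
import Mathlib.Algebra.Homology.DerivedCategory.ExactFunctor

/-!
# Brown representability between derived categories of arbitrary universe (helper22)
-/

set_option autoImplicit false
set_option maxHeartbeats 1000000
set_option linter.style.haveILetI false
set_option linter.unusedSectionVars false

universe w w₁ w₂ v u u₁

open CategoryTheory CategoryTheory.Limits

namespace Groth.Agent.H22.CohDimSmall

open Groth.Agent.Lib.DerCat

variable (A : Type u) [Category.{v} A] [Abelian A]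

/-- A copy of a category, to carry a second model of the derived category. -/
def Cpy : Type u := A

instance : Category.{v} (Cpy A) := inferInstanceAs (Category.{v} A)

noncomputable instance : Abelian (Cpy A) := inferInstanceAs (Abelian A)

instance [IsGrothendieckAbelian.{v} A] : IsGrothendieckAbelian.{v} (Cpy A) :=
  inferInstanceAs (IsGrothendieckAbelian.{v} A)

noncomputable instance [IsGrothendieckAbelian.{v} A] : HasDerivedCategory.{v} (Cpy A) :=
  ModGen.hasDerivedCategory

/-- From the copy to the category. -/
def toA : Cpy A ⥤ A where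
  obj X := X
  map f := f

/-- From the category to the copy. -/
def toCpy : A ⥤ Cpy A where
  obj X := X
  map f := f

/-- The two are inverse. -/
def eqv : Cpy A ≌ A :=
  CategoryTheory.Equivalence.mk (toA A) (toCpy A) (Iso.refl _) (Iso.refl _)

instance : (toA A).IsEquivalence := (eqv A).isEquivalence_functor
instance : (toCpy A).IsEquivalence := (eqv A).isEquivalence_inverse
instance : (toA A).Additive where map_add := rfl
instance : (toCpy A).Additive where map_add := rfl

variable {A} [HasDerivedCategory.{w} A] [IsGrothendieckAbelian.{v} A]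

noncomputable def roundA : (toCpy A).mapHomologicalComplex (ComplexShape.up ℤ) ⋙
    (toA A).mapHomologicalComplex (ComplexShape.up ℤ) ≅ 𝟭 (CochainComplex A ℤ) :=
  NatIso.ofComponents (fun K => HomologicalComplex.Hom.isoOfComponents (fun n => Iso.refl (K.X n))
    (fun i j _ => (Category.id_comp _).trans (Category.comp_id _).symm))
    (fun f => by ext n; exact (Category.comp_id _).trans (Category.id_comp _).symm)

noncomputable def roundC : (toA A).mapHomologicalComplex (ComplexShape.up ℤ) ⋙
    (toCpy A).mapHomologicalComplex (ComplexShape.up ℤ) ≅ 𝟭 (CochainComplex (Cpy A) ℤ) :=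
  NatIso.ofComponents (fun K => HomologicalComplex.Hom.isoOfComponents (fun n => Iso.refl (K.X n))
    (fun i j _ => (Category.id_comp _).trans (Category.comp_id _).symm))
    (fun f => by ext n; exact (Category.comp_id _).trans (Category.id_comp _).symm)

/-- The equivalence of the two models. -/
noncomputable def derEqv : DerivedCategory (Cpy A) ≌ DerivedCategory A :=
  let W₁ := HomologicalComplex.quasiIso (Cpy A) (ComplexShape.up ℤ)
  let W₂ := HomologicalComplex.quasiIso A (ComplexShape.up ℤ)
  let e₁ : DerivedCategory.Q ⋙ (toA A).mapDerivedCategory ⋙ (toCpy A).mapDerivedCategory ≅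
      DerivedCategory.Q (C := Cpy A) :=
    (Functor.associator _ _ _).symm ≪≫ Functor.isoWhiskerRight (toA A).mapDerivedCategoryFactors _ ≪≫
      Functor.associator _ _ _ ≪≫ Functor.isoWhiskerLeft _ (toCpy A).mapDerivedCategoryFactors ≪≫
      (Functor.associator _ _ _).symm ≪≫ Functor.isoWhiskerRight roundC _ ≪≫ Functor.leftUnitor _
  let e₂ : DerivedCategory.Q ⋙ (toCpy A).mapDerivedCategory ⋙ (toA A).mapDerivedCategory ≅
      DerivedCategory.Q (C := A) :=
    (Functor.associator _ _ _).symm ≪≫ Functor.isoWhiskerRight (toCpy A).mapDerivedCategoryFactors _ ≪≫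
      Functor.associator _ _ _ ≪≫ Functor.isoWhiskerLeft _ (toA A).mapDerivedCategoryFactors ≪≫
      (Functor.associator _ _ _).symm ≪≫ Functor.isoWhiskerRight roundA _ ≪≫ Functor.leftUnitor _
  letI : Localization.Lifting DerivedCategory.Q W₁ (DerivedCategory.Q (C := Cpy A))
      ((toA A).mapDerivedCategory ⋙ (toCpy A).mapDerivedCategory) := ⟨e₁⟩
  letI : Localization.Lifting DerivedCategory.Q W₂ (DerivedCategory.Q (C := A))
      ((toCpy A).mapDerivedCategory ⋙ (toA A).mapDerivedCategory) := ⟨e₂⟩
  letI : Localization.Lifting DerivedCategory.Q W₁ (DerivedCategory.Q (C := Cpy A))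
      (𝟭 (DerivedCategory (Cpy A))) := ⟨Functor.rightUnitor _⟩
  letI : Localization.Lifting DerivedCategory.Q W₂ (DerivedCategory.Q (C := A))
      (𝟭 (DerivedCategory A)) := ⟨Functor.rightUnitor _⟩
  CategoryTheory.Equivalence.mk (toA A).mapDerivedCategory (toCpy A).mapDerivedCategory
    (Localization.liftNatIso DerivedCategory.Q W₁ (DerivedCategory.Q (C := Cpy A)) (DerivedCategory.Q (C := Cpy A))
      (𝟭 _) _ (Iso.refl _))
    (Localization.liftNatIso DerivedCategory.Q W₂ (DerivedCategory.Q (C := A)) (DerivedCategory.Q (C := A))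
      _ (𝟭 _) (Iso.refl _))

instance isEquivalence_toA : (toA A).mapDerivedCategory.IsEquivalence :=
  (derEqv (A := A)).isEquivalence_functor

instance isEquivalence_toCpy : (toCpy A).mapDerivedCategory.IsEquivalence :=
  (derEqv (A := A)).isEquivalence_inverse

variable {B : Type u₁} [Category.{v} B] [Abelian B] [IsGrothendieckAbelian.{v} B] [HasDerivedCategory.{w₂} B]

/-- An exact functor preserving small sums between derived categories is a left adjoint. -/
theorem isLeftAdjoint (F : DerivedCategory A ⥤ DerivedCategory B) [F.CommShift ℤ] [F.IsTriangulated]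
    [∀ κ : Type v, PreservesColimitsOfShape (Discrete κ) F] : F.IsLeftAdjoint := by
  let F' := (toA A).mapDerivedCategory ⋙ F ⋙ (toCpy B).mapDerivedCategory
  haveI := Groth.Agent.Lib.DerivedOX.RightDerived.isLeftAdjoint_Qh (A := Cpy A) KInjExists.hasKInjRes
  haveI : HasCoproducts.{v} (DerivedCategory (Cpy A)) := fun J =>
    HProd.hasColimitsOfShape_derivedCategory
  haveI hF' : F'.IsLeftAdjoint := BrownGroth.isLeftAdjoint F'
  let eA := derEqv (A := A)
  let eB := derEqv (A := B)
  have i : eA.inverse ⋙ F' ⋙ eB.functor ≅ F :=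
    (Functor.associator _ _ _).symm ≪≫ Functor.isoWhiskerRight ((Functor.associator _ _ _).symm ≪≫
      Functor.isoWhiskerRight eA.counitIso _ ≪≫ Functor.leftUnitor _) _ ≪≫ Functor.associator _ _ _ ≪≫
      Functor.isoWhiskerLeft _ eB.counitIso ≪≫ Functor.rightUnitor _
  exact ((Adjunction.ofIsLeftAdjoint (eA.inverse ⋙ F' ⋙ eB.functor)).ofNatIsoLeft i).isLeftAdjoint

end Groth.Agent.H22.CohDimSmall
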